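import Cfsg.Agent.OddHalf.D9.J2.Kill
import Cfsg.Agent.OddHalf.D9.Basic
import Cfsg.Agent.OddHalf.D9.Cut

/-!
# D9, row `2.J₂` (helper341)

`kf_of_card`: the facts `KF` for a finite perfect group `L` with centre of order 2 and `L / Z(L) ≃* J₂`.
`false_of_conf`: no configuration `Basic.Conf` with `K = 2.J₂`.
-/

set_option autoImplicit false
set_option linter.style.haveILetI false

namespace Cfsg.Agent.OddHalf.D9.J2.Row

open Subgroup Cfsg Cfsg.Agent.OddHalf.D9.J2.Facts Cfsg.Agent.OddHalf.D9.J2.Kill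
open Cfsg.Agent.KFacts.MulTwo Cfsg.Agent.KFacts.MulDef Cfsg.Agent.OddHalf.Iface
open scoped commutatorElement

universe u

/-! ### The facts -/

theorem mem_center_iff_of_card {L : Type*} [Group L] (h2 : Nat.card ↥(center L) = 2) {c : L}
    (hc : c ∈ center L) (hc1 : c ≠ 1) (x : L) : x ∈ center L ↔ x = 1 ∨ x = c := by
  constructor
  · intro hx
    by_cases hx1 : x = 1
    · exact Or.inl hx1
    · right
      obtain ⟨z, hz1, hz2⟩ := (Nat.card_eq_two_iff' (1 : center L)).1 h2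
      have e1 := hz2 ⟨x, hx⟩ (fun h => hx1 (congrArg Subtype.val h))
      have e2 := hz2 ⟨c, hc⟩ (fun h => hc1 (congrArg Subtype.val h))
      exact congrArg Subtype.val (e1.trans e2.symm)
  · rintro (rfl | rfl)
    · exact one_mem _
    · exact hc

/-- the double cover -/
theorem exists_dbl {L : Type*} [Group L] (hp : commutator L = ⊤) (h2 : Nat.card ↥(center L) = 2)
    (hJ : Spor.IsoJ2 (L ⧸ center L)) {c : L} (hc : c ∈ center L) (hc1 : c ≠ 1) :
    ∃ π : L →* Spor.J2, Dbl π c := by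
  obtain ⟨e⟩ := hJ
  have hm := mem_center_iff_of_card h2 hc hc1
  refine ⟨e.toMonoidHom.comp (QuotientGroup.mk' (center L)), ⟨⟨hc1, ?_, ?_, hp⟩,
    e.surjective.comp (QuotientGroup.mk'_surjective _), ?_⟩⟩
  · rcases (hm (c * c)).1 (mul_mem hc hc) with h | h
    · exact h
    · exact absurd (mul_eq_left.1 h) hc1
  · intro x
    exact (mem_center_iff.1 hc x).symm
  · intro x
    show e (x : L ⧸ center L) = 1 ↔ _
    rw [e.map_eq_one_iff, QuotientGroup.eq_one_iff, hm]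

/-- **The facts for `2.J₂`.** -/
theorem kf_of_card {L : Type*} [Group L] [Finite L] (hp : commutator L = ⊤) (h2 : Nat.card ↥(center L) = 2)
    (hJ : Spor.IsoJ2 (L ⧸ center L)) {c : L} (hc : c ∈ center L) (hc1 : c ≠ 1) : KF c 64 := by
  obtain ⟨π, hd⟩ := exists_dbl hp h2 hJ hc hc1
  obtain ⟨t, u, Q, v, ρ, D⟩ := Cfsg.Agent.KFacts.J2.Basic.exists_dat
  have hfin : Finite Cfsg.Spor.J2 :=
    Nat.finite_of_card_ne_zero (by rw [Cfsg.Agent.S1619.result.2.2.2]; norm_num)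
  exact kf hd D

/-! ### Perfect subgroups of `C(z)` -/

variable {G : Type*} [Group G]

/-- `K C(K)` -/
def KR (K : Subgroup G) : Subgroup G where
  carrier := {x | InKR K x}
  one_mem' := ⟨1, one_mem _, 1, fun y _ => by rw [one_mul, mul_one], by rw [one_mul]⟩
  mul_mem' := by
    rintro a b ⟨k, hk, r, hr, rfl⟩ ⟨k', hk', r', hr', rfl⟩
    refine ⟨k * k', mul_mem hk hk', r * r', ?_, ?_⟩
    · intro y hy
      calc r * r' * y = r * (r' * y) := by group
        _ = (r * y) * r' := by rw [hr' y hy]; group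
        _ = y * (r * r') := by rw [hr y hy]; group
    · calc k * r * (k' * r') = k * (r * k') * r' := by group
        _ = k * (k' * r) * r' := by rw [hr k' hk']
        _ = _ := by group
  inv_mem' := by
    rintro a ⟨k, hk, r, hr, rfl⟩
    refine ⟨k⁻¹, inv_mem hk, r⁻¹, ?_, ?_⟩
    · intro y hy
      rw [inv_mul_eq_iff_eq_mul, ← mul_assoc, hr y hy, mul_inv_cancel_right]
    · calc (k * r)⁻¹ = (r * k)⁻¹ := by rw [hr k hk]
        _ = k⁻¹ * r⁻¹ := by group

theorem mem_KR {K : Subgroup G} {x : G} : x ∈ KR K ↔ InKR K x := Iff.rfl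

/-- If all squares of elements of `C(z)` are in `K C(K)` and `C(K)` is commutative, the perfect subgroups of `C(z)`
lie in `K`. -/
theorem perf_le {z : G} {K : Subgroup G} (hnorm : ∀ h, h * z = z * h → ∀ k ∈ K, h * k * h⁻¹ ∈ K)
    (hsq : ∀ h, h * z = z * h → InKR K (h * h))
    (hcomm : ∀ r s : G, (∀ k ∈ K, r * k = k * r) → (∀ k ∈ K, s * k = k * s) → r * s = s * r)
    {Y : Subgroup G} (hY : ⁅Y, Y⁆ = Y) (hYz : ∀ y ∈ Y, y * z = z * y) : Y ≤ K := by
  have hinv : ∀ h, h * z = z * h → h⁻¹ * z = z * h⁻¹ := by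
    intro h hh
    rw [inv_mul_eq_iff_eq_mul, ← mul_assoc, hh, mul_inv_cancel_right]
  have hconj : ∀ h, h * z = z * h → ∀ x ∈ KR K, h * x * h⁻¹ ∈ KR K := by
    rintro h hh _ ⟨k, hk, r, hr, rfl⟩
    refine ⟨h * k * h⁻¹, hnorm h hh k hk, h * r * h⁻¹, ?_, by group⟩
    intro y hy
    have h1 : h⁻¹ * y * h ∈ K := by
      have := hnorm h⁻¹ (hinv h hh) y hy
      rwa [inv_inv] at this
    calc h * r * h⁻¹ * y = h * (r * (h⁻¹ * y * h)) * h⁻¹ := by group
      _ = h * (h⁻¹ * y * h * r) * h⁻¹ := by rw [hr _ h1]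
      _ = y * (h * r * h⁻¹) := by group
  have h1 : Y ≤ KR K := by
    rw [← hY, commutator_le]
    intro a ha b hb
    have e : ⁅a, b⁆ = (a * b) * (a * b) * (b⁻¹ * (a⁻¹ * a⁻¹) * b⁻¹⁻¹) * (b⁻¹ * b⁻¹) := by
      rw [commutatorElement_def]; group
    rw [e]
    refine mul_mem (mul_mem (hsq _ (hYz _ (mul_mem ha hb))) (hconj _ (hinv _ (hYz b hb)) _ ?_)) ?_
    · exact hsq _ (hinv _ (hYz a ha))
    · exact hsq _ (hinv _ (hYz b hb))
  rw [← hY, commutator_le]
  intro a ha b hb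
  obtain ⟨k, hk, r, hr, rfl⟩ := h1 ha
  obtain ⟨k', hk', r', hr', rfl⟩ := h1 hb
  have hr1 : ∀ k ∈ K, r⁻¹ * k = k * r⁻¹ := fun y hy => by
    rw [inv_mul_eq_iff_eq_mul, ← mul_assoc, hr y hy, mul_inv_cancel_right]
  have hr1' : ∀ k ∈ K, r'⁻¹ * k = k * r'⁻¹ := fun y hy => by
    rw [inv_mul_eq_iff_eq_mul, ← mul_assoc, hr' y hy, mul_inv_cancel_right]
  have e : ⁅k * r, k' * r'⁆ = ⁅k, k'⁆ := by
    rw [commutatorElement_def, commutatorElement_def]
    calc k * r * (k' * r') * (k * r)⁻¹ * (k' * r')⁻¹ = k * (r * k') * r' * (r⁻¹ * k⁻¹) * r'⁻¹ * k'⁻¹ := by group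
      _ = k * (k' * r) * r' * (k⁻¹ * r⁻¹) * r'⁻¹ * k'⁻¹ := by rw [hr k' hk', hr1 _ (inv_mem hk)]
      _ = k * k' * (r * r') * k⁻¹ * r⁻¹ * r'⁻¹ * k'⁻¹ := by group
      _ = k * k' * (r' * r) * k⁻¹ * r⁻¹ * r'⁻¹ * k'⁻¹ := by rw [hcomm r r' hr hr']
      _ = k * k' * r' * (r * k⁻¹) * r⁻¹ * r'⁻¹ * k'⁻¹ := by group
      _ = k * k' * r' * (k⁻¹ * r) * r⁻¹ * r'⁻¹ * k'⁻¹ := by rw [hr _ (inv_mem hk)]
      _ = k * k' * (r' * k⁻¹) * r'⁻¹ * k'⁻¹ := by group
      _ = k * k' * (k⁻¹ * r') * r'⁻¹ * k'⁻¹ := by rw [hr' _ (inv_mem hk)]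
      _ = _ := by group
  rw [e, commutatorElement_def]
  exact mul_mem (mul_mem (mul_mem hk hk') (inv_mem hk)) (inv_mem hk')

/-- **No configuration with `K = 2.J₂`.** -/
theorem false_of_conf {z : G} {K : Subgroup G} (c : Basic.Conf G K z) (h2 : Nat.card ↥(center ↥K) = 2)
    (hJ : Spor.IsoJ2 (↥K ⧸ center ↥K)) : False := by
  haveI := c.fin
  haveI := c.simple
  have hp : commutator ↥K = ⊤ := by
    have h1 : (commutator ↥K).map K.subtype = (⊤ : Subgroup ↥K).map K.subtype := by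
      rw [_root_.commutator_def, map_commutator, ← MonoidHom.range_eq_map, range_subtype, c.perf]
    exact map_injective K.subtype_injective h1
  have hzc : (⟨z, c.zK⟩ : ↥K) ∈ center ↥K := by
    rw [mem_center_iff]
    intro x
    apply Subtype.ext
    exact mem_centralizer_iff.1 c.zR (x : G) x.2
  have hz1 : (⟨z, c.zK⟩ : ↥K) ≠ 1 := fun h => c.z1 (congrArg Subtype.val h)
  have hkf := kf_of_card hp h2 hJ hzc hz1
  have hnorm : ∀ h, h * z = z * h → ∀ k ∈ K, h * k * h⁻¹ ∈ K := by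
    intro h hh k hk
    have h1 : h ∈ normalizer (K : Set G) := by
      rw [← c.H]
      exact mem_centralizer_singleton_iff.2 hh
    exact (mem_normalizer_iff.1 h1 k).1 hk
  have hcomm : ∀ r s : G, (∀ k ∈ K, r * k = k * r) → (∀ k ∈ K, s * k = k * s) → r * s = s * r := by
    intro r s hr hs
    have hr' : r ∈ centralizer (K : Set G) := mem_centralizer_iff.2 fun k hk => (hr k hk).symm
    have hs' : s ∈ centralizer (K : Set G) := mem_centralizer_iff.2 fun k hk => (hs k hk).symm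
    haveI := c.Rcyc
    have h1 := (IsCyclic.commGroup (α := ↥(centralizer (K : Set G)))).mul_comm ⟨r, hr'⟩ ⟨s, hs'⟩
    exact congrArg Subtype.val h1
  have hnorm' : ∀ h, h * z = z * h → ∀ k ∈ K, h⁻¹ * k * h ∈ K := by
    intro h hh k hk
    have h1 : h⁻¹ * z = z * h⁻¹ := by
      rw [inv_mul_eq_iff_eq_mul, ← mul_assoc, hh, mul_inv_cancel_right]
    have := hnorm h⁻¹ h1 k hk
    rwa [inv_inv] at this
  have hsq : ∀ h, h * z = z * h → InKR K (h * h) := by
    intro h hh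
    obtain ⟨k, hk⟩ := hkf.aut_sq (conjAut h (hnorm h hh) (hnorm' h hh)) (Subtype.ext (by
      show h * z * h⁻¹ = z
      rw [hh]; group))
    refine inKR_of_inner (k : G) k.2 fun x hx => ?_
    have h3 : h * (h * x * h⁻¹) * h⁻¹ = k * x * (k : G)⁻¹ :=
      congrArg (fun β : MulAut K => ((β ⟨x, hx⟩ : K) : G)) hk
    rw [← h3]; group
  refine Setup.false (z := z) (K := K) (hzK := c.zK) (N := 64) ⟨hkf, hnorm, ?_, ?_, ?_⟩ c.na
  · intro Y hY hYz
    exact perf_le hnorm hsq hcomm hY hYz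
  · intro r hr hrr
    exact c.uniq r (mem_centralizer_iff.2 fun k hk => (hr k hk).symm) hrr
  · intro k hk hkc
    have h1 : (⟨k, hk⟩ : ↥K) ∈ center ↥K := by
      rw [mem_center_iff]
      intro x
      apply Subtype.ext
      exact (hkc x x.2).symm
    rcases (mem_center_iff_of_card h2 hzc hz1 _).1 h1 with h | h
    · exact Or.inl (congrArg Subtype.val h)
    · exact Or.inr (congrArg Subtype.val h)

/-- **D9, row `2.J₂`**, from the configuration theorem (`Basic.of_std` for `Std0`). -/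
theorem row_of (hof : ∀ (G : Type u) [Group G], Ctx G → ∀ K : Subgroup G, Std0 G K → Cyc K → center ↥K ≠ ⊥ →
    ∃ z : G, Basic.Conf G K z) : Cut.Row.{u} (fun K _ => Cut.Two (fun X _ => Spor.IsoJ2 X) K) := by
  intro G _ C K S hc h
  haveI := C.fin
  obtain ⟨z, c⟩ := hof G C K S hc (fun hb => by
    have h1 := h.1
    rw [hb, Subgroup.card_bot] at h1
    omega)
  exact false_of_conf c h.1 h.2

end Cfsg.Agent.OddHalf.D9.J2.Row
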