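import Cfsg.Agent.KFacts.J2.Aut
import Cfsg.Agent.OddHalf.D9.J2.Row
import Cfsg.Agent.OddHalf.D4.EvenCyc

/-!
# D4, even cyclic centre: the facts (P1), (P2) for `2.J₂` (helper341)

For a finite perfect group `L` with centre of order 2 and `L / Z(L) ≃* J₂`: `PairFree L` and `SqDiff L`.
-/

set_option autoImplicit false
set_option linter.style.haveILetI false

namespace Cfsg.Agent.OddHalf.D9.J2.PFacts

open Subgroup Cfsg.Agent.KFacts.MulTwo Cfsg.Agent.KFacts.MulDef Cfsg.Agent.KFacts.MulSpor.Class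
open Cfsg.Agent.J2Type.Model Cfsg.Agent.J2Type.SPFacts Cfsg.Agent.J2Type.CStruct
open Cfsg.Agent.J3Type.OneClass Cfsg.Agent.J2Type.Base Cfsg.Agent.KFacts.J2.Basic
open Cfsg.Agent.OddHalf.D9.J2.Cover Cfsg.Agent.OddHalf.D9.J2.Facts
open Cfsg.Agent.OddHalf.D4.EvenCyc (PairFree SqDiff)
open scoped commutatorElement

variable {L X : Type*} [Group L] [Group X] {π : L →* X} {c : L} {t u : X}
  {Q : Subgroup (centralizer ({t} : Set X))} {v : Fin 5 → centralizer ({t} : Set X)}
  {ρ : centralizer ({t} : Set X) →* SP}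

/-! ### Fixed lifts -/

theorem fix_t [Finite X] (hd : Dbl π c) (D : Dat t u Q v ρ) {γ : MulAut L} (hγ : γ c = c) {x : L} (hx : π x = t)
    (h : π (γ x) = t) : γ x = x := by
  obtain ⟨δ, hδ⟩ := exists_bar hd γ hγ
  have hδt : δ t = t := by rw [← hx, hδ, h, hx]
  obtain ⟨σ, s', hσ⟩ := D.exists_act δ hδt
  obtain ⟨Z, e, V, Λ⟩ := exists_lift hd D
  obtain ⟨hγZ, -⟩ := Λ.act hd D γ hγ σ s' (by
    intro i
    rw [← hδ, Λ.πV, hσ i])
  rcases eq_or hd (x := x) (y := Z) (by rw [hx, Λ.πZ]) with h1 | h1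
  · rw [h1, hγZ]
  · rw [h1, map_mul, hγ, hγZ]

theorem conj_apply' (g : L) (α : MulAut L) (x : L) :
    ((MulAut.conj g)⁻¹ * α * MulAut.conj g) x = g⁻¹ * α (g * x * g⁻¹) * g := by
  show (MulAut.conj g)⁻¹ (α (g * x * g⁻¹)) = _
  rw [← map_inv, MulAut.conj_apply, inv_inv]

theorem fix_c (hd : Dbl π c) (g : L) {α : MulAut L} (hα : α c = c) :
    ((MulAut.conj g)⁻¹ * α * MulAut.conj g) c = c := by
  rw [conj_apply', ← hd.cen g, mul_inv_cancel_right, hα, mul_assoc, hd.cen g, inv_mul_cancel_left]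

/-- an automorphism fixing a conjugate of `t` fixes its lifts -/
theorem fix_conj [Finite X] (hd : Dbl π c) (D : Dat t u Q v ρ) {α : MulAut L} (hα : α c = c) {x : L}
    (hx : IsConj t (π x)) (h : π (α x) = π x) : α x = x := by
  obtain ⟨g, hg⟩ := isConj_iff.1 hx
  obtain ⟨g, rfl⟩ := hd.surj g
  have h1 : π (g⁻¹ * x * g) = t := by
    rw [map_mul, map_mul, map_inv, ← hg]; group
  have h3 : g * (g⁻¹ * x * g) * g⁻¹ = x := by group
  have h2 := fix_t hd D (γ := (MulAut.conj g)⁻¹ * α * MulAut.conj g) (fix_c hd g hα) h1 (by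
    rw [conj_apply', h3, map_mul, map_mul, map_inv, h, ← hg]; group)
  rw [conj_apply', h3] at h2
  calc α x = g * (g⁻¹ * α x * g) * g⁻¹ := by group
    _ = x := by rw [h2, h3]

/-! ### Automorphisms trivial on `C(k)` -/

theorem cent_of_t [Finite X] (hd : Dbl π c) (D : Dat t u Q v ρ) {k : L} (hk : π k = t) {β : MulAut L}
    (hβc : β c = c) (hβ : ∀ x, k * x = x * k → β x = x) : β = 1 ∨ β = MulAut.conj k := by
  obtain ⟨δ, hδ⟩ := exists_bar hd β hβc
  have h1 : ∀ y : X, y * t = t * y → δ y = y := by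
    intro y hy
    obtain ⟨y, rfl⟩ := hd.surj y
    rw [hδ, hβ y (comm_of hd D hk hy).symm]
  rcases Cfsg.Agent.KFacts.J2.Aut.cent_t D h1 with h | h
  · left
    apply eq_one_of_bar hd
    intro x
    rw [← hδ, h]; rfl
  · right
    apply inner_of_bar hd
    intro x
    rw [← hδ, h, hk]; rfl

theorem cent_of_u [Finite L] [Finite X] (hd : Dbl π c) (D : Dat t u Q v ρ) {k : L} (hk : π k = u) {β : MulAut L}
    (hβc : β c = c) (hββ : ∀ x, β (β x) = x) (hβ : ∀ x, k * x = x * k → β x = x) :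
    β = 1 ∨ β = MulAut.conj k := by
  obtain ⟨f, U, V, H0, FF⟩ := Cfsg.Agent.J2Type.CentU.main D.F
  obtain ⟨-, -, h60, hA5⟩ := Cfsg.Agent.J2Type.Order.order_of_fus D.F FF.str
  obtain ⟨δ, hδ⟩ := exists_bar hd β hβc
  have hkc : k * k = c := sq_u hd D (by rw [hk])
  have hδu : δ u = u := by rw [← hk, hδ, hβ k rfl]
  -- the perfect subgroup
  set M : Subgroup L := H0.comap π with hM
  have hMπ : M.map π = H0 := map_comap_eq_self_of_surjective hd.surj _
  obtain ⟨hp1, hp2⟩ := perfect_commutator hd (M := M) (by rw [hMπ]; exact perf_A5 hA5)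
  have hcomm : ∀ y ∈ (⁅M, M⁆ : Subgroup L), y * k = k * y := by
    apply comm_commutator hd
    intro y hy
    apply comm_or hd
    rw [hk]
    exact mem_cent.1 (FF.str.le hy)
  have hδH : ∀ y ∈ H0, δ y = y := by
    intro y hy
    have h1 : y ∈ (⁅M, M⁆ : Subgroup L).map π := by rw [hp2, hMπ]; exact hy
    obtain ⟨y, hy', rfl⟩ := h1
    rw [hδ, hβ y (hcomm y hy').symm]
  by_cases hin : ∃ b, β = MulAut.conj b
  · obtain ⟨b, rfl⟩ := hin
    have hbx : ∀ x, k * x = x * k → b * x = x * b := fun x hx => mul_inv_eq_iff_eq_mul.1 (hβ x hx)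
    have hbH : ∀ y ∈ H0, π b * y = y * π b := by
      intro y hy
      have h1 : y ∈ (⁅M, M⁆ : Subgroup L).map π := by rw [hp2, hMπ]; exact hy
      obtain ⟨y, hy', rfl⟩ := h1
      rw [← map_mul, hbx y (hcomm y hy').symm, map_mul]
    have hbu : π b * u = u * π b := by rw [← hk, ← map_mul, hbx k rfl, map_mul]
    -- `π b ∈ V`
    obtain ⟨a, ha, h, hh, hah⟩ := Cfsg.Agent.J2Type.Cent5.exists_mul FF (x := π b)
      (mem_centralizer_singleton_iff.2 hbu)
    have hhH : ∀ y ∈ H0, h * y = y * h := by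
      intro y hy
      have h1 : h = a⁻¹ * π b := by rw [hah]; group
      have h2 : a * y = y * a := Cfsg.Agent.J2Type.Cent5.V_comm D.F FF h60 ha hy
      have h3 : a⁻¹ * y = y * a⁻¹ := by
        rw [inv_mul_eq_iff_eq_mul, ← mul_assoc, h2, mul_inv_cancel_right]
      calc h * y = a⁻¹ * (π b * y) := by rw [h1]; group
        _ = (a⁻¹ * y) * π b := by rw [hbH y hy]; group
        _ = y * h := by rw [h3, h1]; group
    have hh1 : h = 1 := by
      by_contra hne
      exact FF.f_ne h (FF.cap h hh (hhH t (FF.U_le FF.zU))) hne (hhH f FF.f_mem).symm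
    have hbV : π b ∈ V := by rw [hah, hh1, mul_one]; exact ha
    have h5 : ∀ {y : X}, y ∈ V → y ≠ 1 → IsConj u y := fun hy hy1 =>
      Cfsg.Agent.J2Type.Cent5.isConj_of_mem_V D.F FF hy hy1
    by_cases hb1 : π b = 1
    · left
      apply eq_one_of_bar hd
      intro x
      show π (b * x * b⁻¹) = π x
      rw [map_mul, map_mul, map_inv, hb1]; group
    · by_cases hbu1 : π b = u
      · right
        apply inner_of_bar hd
        intro x
        show π (b * x * b⁻¹) = _
        rw [map_mul, map_mul, map_inv, hbu1, hk]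
      · exfalso
        have h6 : b * b = c := sq_u hd D (h5 hbV hb1)
        have h7 : (b * k) * (b * k) = c := by
          apply sq_u hd D
          rw [map_mul, hk]
          apply h5 (mul_mem hbV FF.uV)
          intro h8
          apply hbu1
          calc π b = π b * u * u := by rw [mul_assoc, D.uu, mul_one]
            _ = u := by rw [h8, one_mul]
        apply hd.ne
        calc c = (b * k) * (b * k) := h7.symm
          _ = b * (k * b) * k := by group
          _ = b * (b * k) * k := by rw [hbx k rfl]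
          _ = (b * b) * (k * k) := by group
          _ = 1 := by rw [h6, hkc, hd.sq]
  · exfalso
    push Not at hin
    refine Cfsg.Agent.KFacts.J2.Aut.no_outer_u D (α := δ) ?_ ?_ (hδH t (FF.U_le FF.zU)) hδu ?_
    · intro y hy
      obtain ⟨y, rfl⟩ := hd.surj y
      apply hin y
      apply inner_of_bar hd
      intro x
      rw [← hδ, hy]; rfl
    · intro x
      obtain ⟨x, rfl⟩ := hd.surj x
      rw [hδ, hδ, hββ]
    · intro i hi
      exact hδH _ (FF.str.z_mem _ (D.isConj_v i) hi)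

/-- **Automorphisms of order 2 trivial on `C(k)`.** -/
theorem cent_of [Finite L] [Finite X] (hd : Dbl π c) (D : Dat t u Q v ρ) {k : L} (hk2 : π k * π k = 1)
    (hk1 : π k ≠ 1) {β : MulAut L} (hβc : β c = c) (hββ : ∀ x, β (β x) = x)
    (hβ : ∀ x, k * x = x * k → β x = x) : β = 1 ∨ β = MulAut.conj k := by
  have key : ∀ g : L, (∀ γ : MulAut L, γ c = c → (∀ x, γ (γ x) = x) →
      (∀ x, (g⁻¹ * k * g) * x = x * (g⁻¹ * k * g) → γ x = x) → γ = 1 ∨ γ = MulAut.conj (g⁻¹ * k * g)) →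
      β = 1 ∨ β = MulAut.conj k := by
    intro g h
    have e1 : ∀ x, ((MulAut.conj g)⁻¹ * β * MulAut.conj g) (((MulAut.conj g)⁻¹ * β * MulAut.conj g) x) = x := by
      intro x
      rw [conj_apply', conj_apply']
      have h1 : g * (g⁻¹ * β (g * x * g⁻¹) * g) * g⁻¹ = β (g * x * g⁻¹) := by group
      rw [h1, hββ]; group
    have e2 : ∀ x, (g⁻¹ * k * g) * x = x * (g⁻¹ * k * g) →
        ((MulAut.conj g)⁻¹ * β * MulAut.conj g) x = x := by
      intro x hx
      rw [conj_apply', hβ]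
      · group
      · calc k * (g * x * g⁻¹) = g * ((g⁻¹ * k * g) * x) * g⁻¹ := by group
          _ = g * (x * (g⁻¹ * k * g)) * g⁻¹ := by rw [hx]
          _ = _ := by group
    have h2 : β = MulAut.conj g * ((MulAut.conj g)⁻¹ * β * MulAut.conj g) * (MulAut.conj g)⁻¹ := by group
    rcases h ((MulAut.conj g)⁻¹ * β * MulAut.conj g) (fix_c hd g hβc) e1 e2 with h1 | h1
    · left
      rw [h2, h1]; group
    · right
      rw [h2, h1, map_mul, map_mul, map_inv]; group
  rcases D.F.cover _ (orderOf_two hk2 hk1) with h | h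
  · obtain ⟨g, hg⟩ := isConj_iff.1 h
    obtain ⟨g, rfl⟩ := hd.surj g
    exact key g fun γ h1 h2 h3 => cent_of_t hd D (by rw [map_mul, map_mul, map_inv, ← hg]; group) h1 h3
  · obtain ⟨g, hg⟩ := isConj_iff.1 h
    obtain ⟨g, rfl⟩ := hd.surj g
    exact key g fun γ h1 h2 h3 => cent_of_u hd D (by rw [map_mul, map_mul, map_inv, ← hg]; group) h1 h2 h3

/-! ### (P1) -/

variable (hd : Dbl π c) (D : Dat t u Q v ρ) (hZ : ∀ x ∈ center L, x = 1 ∨ x = c)

include hd hZ

theorem map_c (α : MulAut L) : α c = c := by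
  have h1 : α c ∈ center L := by
    rw [mem_center_iff]
    intro x
    obtain ⟨y, rfl⟩ := α.surjective x
    rw [← map_mul, ← map_mul, hd.cen]
  rcases hZ _ h1 with h | h
  · exact absurd ((map_eq_one_iff α α.injective).1 h) hd.ne
  · exact h

theorem bar_invol {k : L} (h : MulAut.conj k * MulAut.conj k = 1) (h1 : MulAut.conj k ≠ 1) :
    π k * π k = 1 ∧ π k ≠ 1 := by
  constructor
  · rw [← map_mul]
    have h2 : k * k ∈ center L := by
      rw [mem_center_iff]
      intro x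
      have h3 := congrArg (fun γ : MulAut L => γ x) h
      have h4 : k * (k * x * k⁻¹) * k⁻¹ = x := h3
      calc x * (k * k) = (k * (k * x * k⁻¹) * k⁻¹) * (k * k) := by rw [h4]
        _ = _ := by group
    exact (hd.ker _).2 (hZ _ h2)
  · intro h2
    apply h1
    rcases (hd.ker k).1 h2 with h3 | h3
    · rw [h3, map_one]
    · ext x
      show k * x * k⁻¹ = x
      rw [h3, hd.cen]; group

include D

/-- **(P1)** -/
theorem pairFree [Finite L] [Finite X] : PairFree L := by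
  intro α β hαα hββ hαβ hα1 hβ1 hne h1 h2
  have hαx : ∀ x, α (α x) = x := fun x => congrArg (fun γ : MulAut L => γ x) hαα
  have hβx : ∀ x, β (β x) = x := fun x => congrArg (fun γ : MulAut L => γ x) hββ
  by_cases hin : ∃ k, α = MulAut.conj k
  · obtain ⟨k, rfl⟩ := hin
    obtain ⟨h3, h4⟩ := bar_invol hd hZ hαα hα1
    rcases cent_of hd D h3 h4 (map_c hd hZ β) hβx
      (fun x hx => h1 x (by show k * x * k⁻¹ = x; rw [hx]; group)) with h | h
    · exact hβ1 h
    · exact hne h.symm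
  · push Not at hin
    obtain ⟨δ, hδ⟩ := exists_bar hd α (map_c hd hZ α)
    have hδin : ∀ k, δ ≠ MulAut.conj k := by
      intro y hy
      obtain ⟨y, rfl⟩ := hd.surj y
      apply hin y
      apply inner_of_bar hd
      intro x
      rw [← hδ, hy]; rfl
    by_cases hin' : ∃ b, β = MulAut.conj b
    · obtain ⟨b, rfl⟩ := hin'
      obtain ⟨h3, h4⟩ := bar_invol hd hZ hββ hβ1
      refine Cfsg.Agent.KFacts.J2.Aut.no_comm D hδin ?_ h3 h4 ?_
      · intro x
        obtain ⟨x, rfl⟩ := hd.surj x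
        rw [hδ, hδ, hαx]
      · intro y hy hδy
        obtain ⟨y, rfl⟩ := hd.surj y
        rw [hδ] at hδy
        have h5 : b * y * b⁻¹ = y := h1 y (fix_conj hd D (map_c hd hZ α) hy hδy)
        rw [← map_mul, mul_inv_eq_iff_eq_mul.1 h5, map_mul]
    · push Not at hin'
      obtain ⟨ε, hε⟩ := exists_bar hd β (map_c hd hZ β)
      have hεin : ∀ k, ε ≠ MulAut.conj k := by
        intro y hy
        obtain ⟨y, rfl⟩ := hd.surj y
        apply hin' y
        apply inner_of_bar hd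
        intro x
        rw [← hε, hy]; rfl
      obtain ⟨k, hk⟩ := Cfsg.Agent.KFacts.J2.Aut.mul_inner D hδin hεin
      obtain ⟨k, rfl⟩ := hd.surj k
      have h3 : α * β = MulAut.conj k := by
        apply inner_of_bar hd
        intro x
        show π (α (β x)) = _
        rw [← hδ, ← hε]
        exact congrArg (fun γ : MulAut X => γ (π x)) hk
      have h4 : MulAut.conj k * MulAut.conj k = 1 := by
        rw [← h3]
        calc α * β * (α * β) = α * (β * α) * β := by group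
          _ = α * (α * β) * β := by rw [hαβ]
          _ = (α * α) * (β * β) := by group
          _ = 1 := by rw [hαα, hββ, mul_one]
      have h5 : MulAut.conj k ≠ 1 := by
        rw [← h3]
        intro h
        apply hne
        calc α = α * (β * β) := by rw [hββ, mul_one]
          _ = (α * β) * β := by group
          _ = β := by rw [h, one_mul]
      obtain ⟨h6, h7⟩ := bar_invol hd hZ h4 h5
      rcases cent_of hd D h6 h7 (map_c hd hZ β) hβx (fun x hx => h2 x (by
        have h8 : (α * β) x = x := by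
          rw [h3]
          show k * x * k⁻¹ = x
          rw [hx]; group
        exact h8)) with h | h
      · exact hβ1 h
      · apply hα1
        calc α = (α * β) * β⁻¹ := by group
          _ = 1 := by rw [h3, ← h, mul_inv_cancel]

/-! ### (P2) -/

/-- **(P2)** -/
theorem sqDiff [Finite L] [Finite X] : SqDiff L := by
  intro α hαα hα1
  have hαx : ∀ x, α (α x) = x := fun x => congrArg (fun γ : MulAut L => γ x) hαα
  -- an element over a conjugate of `t`
  have key : ∀ y : L, IsConj t (π y) → y ∉ center L ∧ y * y = 1 := by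
    intro y hy
    refine ⟨fun h => ?_, sq_t hd D hy⟩
    have h1 : π y = 1 := (hd.ker y).2 (hZ y h)
    rw [h1] at hy
    exact D.t_ne (isConj_one_left.1 hy)
  by_cases hin : ∃ k, α = MulAut.conj k
  · obtain ⟨k, rfl⟩ := hin
    obtain ⟨h3, h4⟩ := bar_invol hd hZ hαα hα1
    rcases D.F.cover _ (orderOf_two h3 h4) with h | h
    · obtain ⟨g, hg⟩ := isConj_iff.1 h
      obtain ⟨n, hn, -⟩ := D.exists_n
      obtain ⟨g, rfl⟩ := hd.surj g
      obtain ⟨n, rfl⟩ := hd.surj n
      have hti : t⁻¹ = t := inv_eq_of_mul_eq_one_left D.tt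
      refine ⟨g * n⁻¹ * g⁻¹, key _ ?_⟩
      have h5 : π ((MulAut.conj k (g * n⁻¹ * g⁻¹))⁻¹ * (g * n⁻¹ * g⁻¹)) = π g * (t * v 0) * (π g)⁻¹ := by
        show π ((k * (g * n⁻¹ * g⁻¹) * k⁻¹)⁻¹ * (g * n⁻¹ * g⁻¹)) = _
        simp only [map_mul, map_inv]
        rw [← hg, ← hn]
        calc (π g * t * (π g)⁻¹ * (π g * (π n)⁻¹ * (π g)⁻¹) * (π g * t * (π g)⁻¹)⁻¹)⁻¹ *
              (π g * (π n)⁻¹ * (π g)⁻¹) = π g * (t * (π n * t⁻¹ * (π n)⁻¹)) * (π g)⁻¹ := by group
          _ = _ := by rw [hti]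
      rw [h5]
      have h6 := D.isConj_zv 1 0
      rw [zp_one] at h6
      exact h6.trans (isConj_iff.2 ⟨π g, rfl⟩)
    · have hkc : k * k = c := sq_u hd D h
      obtain ⟨Y, -, hYc, x, hx, hxt, k0, hk0⟩ := four' hd D hkc
      refine ⟨k0⁻¹, key _ ?_⟩
      have h5 : (MulAut.conj k k0⁻¹)⁻¹ * k0⁻¹ = x⁻¹ := by
        show (k * k0⁻¹ * k⁻¹)⁻¹ * k0⁻¹ = x⁻¹
        calc (k * k0⁻¹ * k⁻¹)⁻¹ * k0⁻¹ = k * (k0 * k * k0⁻¹)⁻¹ := by group
          _ = k * (k * x)⁻¹ := by rw [hk0]
          _ = k * (x * k)⁻¹ := by rw [hYc x hx]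
          _ = x⁻¹ := by group
      rw [h5, inv_eq_of_mul_eq_one_left (sq_t hd D hxt)]
      exact hxt
  · push Not at hin
    obtain ⟨y, w, h1, h2, h3⟩ := aut_out' hd D (map_c hd hZ α) hαα hin
    refine ⟨w, key _ ?_⟩
    have h4 : (α w)⁻¹ * w = w⁻¹ * (y * y) * w := by
      rw [h3, mul_inv_rev, inv_eq_of_mul_eq_one_left (sq_t hd D h2)]
    rw [h4]
    refine h2.trans (isConj_iff.2 ⟨(π w)⁻¹, ?_⟩)
    rw [inv_inv, map_mul π (w⁻¹ * (y * y)) w, map_mul π w⁻¹ (y * y), map_inv]

omit [Group L] hd D hZ in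
/-- **(P1) and (P2) for `2.J₂`.** -/
theorem main {L : Type*} [Group L] [Finite L] (hp : commutator L = ⊤) (h2 : Nat.card ↥(center L) = 2)
    (hJ : Cfsg.Spor.IsoJ2 (L ⧸ center L)) : PairFree L ∧ SqDiff L := by
  obtain ⟨c, hc1, -⟩ := (Nat.card_eq_two_iff' (1 : center L)).1 h2
  have hc1' : (c : L) ≠ 1 := fun h => hc1 (Subtype.ext h)
  obtain ⟨π, hd⟩ := Row.exists_dbl hp h2 hJ c.2 hc1'
  obtain ⟨t, u, Q, v, ρ, D⟩ := Cfsg.Agent.KFacts.J2.Basic.exists_dat
  have hfin : Finite Cfsg.Spor.J2 :=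
    Nat.finite_of_card_ne_zero (by rw [Cfsg.Agent.S1619.result.2.2.2]; norm_num)
  have hZ : ∀ x ∈ center L, x = 1 ∨ x = (c : L) := fun x hx => (Row.mem_center_iff_of_card h2 c.2 hc1' x).1 hx
  exact ⟨pairFree hd D hZ, sqDiff hd D hZ⟩

end Cfsg.Agent.OddHalf.D9.J2.PFacts
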