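import Cfsg.Agent.KFacts.J2.Basic
import Cfsg.Agent.KFacts.MulSpor.J3
import Cfsg.Agent.J2Type.Cent5

/-!
# The double cover of the Hall–Janko group (helper341)

`π : L → X` a perfect double cover with kernel `{1, c}`, `X` with the data `Dat t u Q v ρ`.

* `sq_t`, `sq_u`: the lifts of the conjugates of `t` are involutions, those of the conjugates of `u` have square `c`.
* `Lift`, `exists_lift`: the normal subgroup `⟨Z, e V i⟩ ≅ 2^{1+4}_-` of the preimage of `C(t)`, and `Lift.act`: the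
  action of the automorphisms on it.
-/

set_option autoImplicit false
set_option linter.style.haveILetI false

namespace Cfsg.Agent.OddHalf.D9.J2.Cover

open Subgroup Cfsg.Agent.KFacts.MulTwo Cfsg.Agent.KFacts.MulDef Cfsg.Agent.KFacts.MulSpor.Class
open Cfsg.Agent.J2Type.Model Cfsg.Agent.J2Type.SPFacts Cfsg.Agent.J2Type.CStruct
open Cfsg.Agent.J3Type.OneClass Cfsg.Agent.J2Type.Base Cfsg.Agent.KFacts.J2.Basic
open Cfsg.Agent.KFacts.MulSpor.J3 (map_zp nf_all sp_aux perm_two)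
open scoped commutatorElement

variable {L X : Type*} [Group L] [Group X] {π : L →* X} {c : L} {t u : X}
  {Q : Subgroup (centralizer ({t} : Set X))} {v : Fin 5 → centralizer ({t} : Set X)}
  {ρ : centralizer ({t} : Set X) →* SP}

theorem comm_of (hd : Dbl π c) (D : Dat t u Q v ρ) {Z : L} (hZ : π Z = t) {g : L} (hg : π g * t = t * π g) :
    g * Z = Z * g := comm_of_perfect hd D.perfect hZ hg

/-- commutators of lifts of `v i`, `v j` are involutions -/
theorem comm_sq (hd : Dbl π c) (D : Dat t u Q v ρ) {a b : L} (ha : π a = v 0) (hb : π b = v 1) :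
    π (a * b * a⁻¹ * b⁻¹) = t ∧ (a * b * a⁻¹ * b⁻¹) * (a * b * a⁻¹ * b⁻¹) = 1 := by
  have h1 : π (a * b * a⁻¹ * b⁻¹) = t := by
    rw [map_mul, map_mul, map_mul, map_inv, map_inv, ha, hb, D.v_anti (show (0 : Fin 5) ≠ 1 by decide)]
    group
  refine ⟨h1, ?_⟩
  have hga : π a * t = t * π a := by rw [ha]; exact D.vt 0
  have h2 := comm_of hd D h1 hga
  have h3 : a * a * b = b * (a * a) := by
    have h4 : π (a * a) = 1 := by rw [map_mul, ha, D.vv]
    rcases (hd.ker _).1 h4 with h | h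
    · rw [h, one_mul, mul_one]
    · rw [h, hd.cen]
  set Z := a * b * a⁻¹ * b⁻¹ with hZ
  have h4 : a * b = Z * (b * a) := by rw [hZ]; group
  have h5 : a * (a * b) = Z * Z * (b * (a * a)) := by
    calc a * (a * b) = a * (Z * (b * a)) := by rw [← h4]
      _ = (a * Z) * (b * a) := by group
      _ = Z * (a * b) * a := by rw [h2]; group
      _ = Z * (Z * (b * a)) * a := by rw [← h4]
      _ = _ := by group
  rw [← mul_assoc, h3] at h5
  exact (mul_eq_right.1 h5.symm)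

/-- the lifts of the conjugates of `t` are involutions -/
theorem sq_t (hd : Dbl π c) (D : Dat t u Q v ρ) {x : L} (hx : IsConj t (π x)) : x * x = 1 := by
  obtain ⟨a, ha⟩ := hd.surj (v 0 : X)
  obtain ⟨b, hb⟩ := hd.surj (v 1 : X)
  obtain ⟨h1, h2⟩ := comm_sq hd D ha hb
  obtain ⟨g, hg⟩ := isConj_iff.1 hx
  rw [sq_conj hd (x := a * b * a⁻¹ * b⁻¹) g (by rw [h1, hg]) (by rw [h1, D.tt]), h2]

theorem exists_cls (hd : Dbl π c) {Z : L} (hZ : π Z = t) {a : X} (ha : IsConj t a) : ∃ x ∈ Cls Z, π x = a := by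
  obtain ⟨g, hg⟩ := isConj_iff.1 ha
  obtain ⟨g, rfl⟩ := hd.surj g
  exact ⟨g * Z * g⁻¹, ⟨g, rfl⟩, by rw [map_mul, map_mul, map_inv, hZ, hg]⟩

/-- the lifted extraspecial group -/
structure Lift (π : L →* X) (c : L) (t : X) (v : Fin 5 → centralizer ({t} : Set X)) (Z e : L) (V : Fin 5 → L) :
    Prop where
  πZ : π Z = t
  ZZ : Z * Z = 1
  ec : e = 1 ∨ e = c
  Vcls : ∀ i, V i ∈ Cls Z
  πV : ∀ i, π (V i) = v i
  VV : ∀ i, V i * V i = 1
  Vac : ∀ i j, i ≠ j → V i * V j = Z * (V j * V i)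
  prod : V 0 * V 1 * V 2 * V 3 * V 4 = e

theorem exists_lift (hd : Dbl π c) (D : Dat t u Q v ρ) : ∃ (Z e : L) (V : Fin 5 → L), Lift π c t v Z e V := by
  obtain ⟨a, ha⟩ := hd.surj (v 0 : X)
  obtain ⟨b, hb⟩ := hd.surj (v 1 : X)
  obtain ⟨hZπ, hZZ⟩ := comm_sq hd D ha hb
  set Z := a * b * a⁻¹ * b⁻¹ with hZdef
  have hC := D.perfect
  have hV : ∀ i, ∃ x ∈ Cls Z, π x = v i := fun i => exists_cls hd hZπ (D.isConj_v i)
  choose V hVc hVπ using hV
  have hV2 : ∀ i, V i * V i = 1 := fun i => sq_t hd D (by rw [hVπ]; exact D.isConj_v i)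
  -- `Z = [V 0, V 1]`
  have hZ01 : V 0 * V 1 = Z * (V 1 * V 0) := by
    have h1 : a * b = Z * (b * a) := by rw [hZdef]; group
    have ce : ∀ e : L, (e = 1 ∨ e = c) → ∀ x, e * x = x * e := by
      rintro e (rfl | rfl) x
      · rw [one_mul, mul_one]
      · exact hd.cen x
    have h0 : ∃ e, (e = 1 ∨ e = c) ∧ V 0 = e * a := by
      rcases eq_or hd (x := V 0) (y := a) (by rw [hVπ, ha]) with h | h
      · exact ⟨1, Or.inl rfl, by rw [h, one_mul]⟩
      · exact ⟨c, Or.inr rfl, h⟩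
    have h1' : ∃ e, (e = 1 ∨ e = c) ∧ V 1 = e * b := by
      rcases eq_or hd (x := V 1) (y := b) (by rw [hVπ, hb]) with h | h
      · exact ⟨1, Or.inl rfl, by rw [h, one_mul]⟩
      · exact ⟨c, Or.inr rfl, h⟩
    obtain ⟨e, he, h2⟩ := h0
    obtain ⟨f, hf, h3⟩ := h1'
    have ce1 := ce e he
    have cf1 := ce f hf
    rw [h2, h3]
    calc e * a * (f * b) = e * (a * f) * b := by group
      _ = e * (f * a) * b := by rw [cf1]
      _ = (e * f) * (a * b) := by group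
      _ = (e * f) * (Z * (b * a)) := by rw [h1]
      _ = e * (f * Z) * (b * a) := by group
      _ = e * (Z * f) * (b * a) := by rw [cf1]
      _ = (e * Z) * (f * b) * a := by group
      _ = (Z * e) * (f * b) * a := by rw [ce1]
      _ = Z * (e * (f * b)) * a := by group
      _ = Z * ((f * b) * e) * a := by rw [ce1]
      _ = Z * (f * b * (e * a)) := by group
  have hVac : ∀ i j, i ≠ j → V i * V j = Z * (V j * V i) := by
    intro i j hij
    obtain ⟨σ, hσ, hi, hj⟩ := Cfsg.Agent.KFacts.QMinus.perm_aux 0 1 i j (by decide) hij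
    obtain ⟨k, hk⟩ := Cfsg.Agent.KFacts.QMinus.exists_c D.M σ hσ
    obtain ⟨g, hg⟩ := hd.surj (k : X)
    have hgt : π g * t = t * π g := by rw [hg]; exact mem_cent.1 k.2
    have h0 : g * V 0 * g⁻¹ = V i := by
      apply uniq hd hC hZπ (conj_mem g (hVc 0)) (hVc i)
      rw [map_mul, map_mul, map_inv, hg, hVπ, hVπ, ← hi]
      exact congrArg Subtype.val (hk 0)
    have h1 : g * V 1 * g⁻¹ = V j := by
      apply uniq hd hC hZπ (conj_mem g (hVc 1)) (hVc j)
      rw [map_mul, map_mul, map_inv, hg, hVπ, hVπ, ← hj]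
      exact congrArg Subtype.val (hk 1)
    rw [← h0, ← h1]
    calc g * V 0 * g⁻¹ * (g * V 1 * g⁻¹) = g * (V 0 * V 1) * g⁻¹ := by group
      _ = (g * Z) * (V 1 * V 0) * g⁻¹ := by rw [hZ01]; group
      _ = (Z * g) * (V 1 * V 0) * g⁻¹ := by rw [comm_of hd D hZπ hgt]
      _ = _ := by group
  refine ⟨Z, _, V, ⟨hZπ, hZZ, (hd.ker _).1 ?_, hVc, hVπ, hV2, hVac, rfl⟩⟩
  rw [map_mul, map_mul, map_mul, map_mul, hVπ, hVπ, hVπ, hVπ, hVπ]
  exact congrArg Subtype.val D.M.v_prod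

variable {Z e : L} {V : Fin 5 → L}

theorem Lift.e_comm (Λ : Lift π c t v Z e V) (hd : Dbl π c) (x : L) : e * x = x * e := by
  rcases Λ.ec with h | h
  · rw [h, one_mul, mul_one]
  · rw [h]; exact hd.cen x

theorem Lift.ee (Λ : Lift π c t v Z e V) (hd : Dbl π c) : e * e = 1 := by
  rcases Λ.ec with h | h
  · rw [h, one_mul]
  · rw [h]; exact hd.sq

theorem Lift.πe (Λ : Lift π c t v Z e V) (hd : Dbl π c) : π e = 1 := (hd.ker e).2 Λ.ec

theorem Lift.Z_comm_V (Λ : Lift π c t v Z e V) (hd : Dbl π c) (D : Dat t u Q v ρ) (i : Fin 5) :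
    V i * Z = Z * V i := comm_of hd D Λ.πZ (by rw [Λ.πV]; exact D.vt i)

theorem Lift.Z_ne (Λ : Lift π c t v Z e V) (D : Dat t u Q v ρ) : Z ≠ 1 := by
  intro h
  have := Λ.πZ
  rw [h, map_one] at this
  exact D.t_ne this.symm

theorem Lift.π_zp (Λ : Lift π c t v Z e V) (a : ZMod 2) :
    π (zp Z a) = ((zp (zc t) a : centralizer ({t} : Set X)) : X) := by
  rcases zmod2_cases a with rfl | rfl
  · rw [zp_zero, zp_zero, map_one]; rfl
  · rw [zp_one, zp_one, Λ.πZ]

/-- the elements `Z^a V i` are in the class of `Z` -/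
theorem Lift.cls_zp (Λ : Lift π c t v Z e V) (a : ZMod 2) (i : Fin 5) : zp Z a * V i ∈ Cls Z := by
  rcases zmod2_cases a with rfl | rfl
  · rw [zp_zero, one_mul]; exact Λ.Vcls i
  · rw [zp_one]
    obtain ⟨j, hj⟩ : ∃ j : Fin 5, j ≠ i := by
      rcases eq_or_ne i 0 with h | h
      · exact ⟨1, by rw [h]; decide⟩
      · exact ⟨0, h.symm⟩
    have h4 : V j * V i * (V j)⁻¹ = Z * V i := by
      rw [Λ.Vac j i hj]; group
    rw [← h4]
    exact conj_mem _ (Λ.Vcls i)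

/-- the generators of the lifted group -/
def W (e : L) (V : Fin 5 → L) (i : Fin 5) : L := e * V i

theorem Lift.πW (Λ : Lift π c t v Z e V) (hd : Dbl π c) (i : Fin 5) : π (W e V i) = v i := by
  rw [W, map_mul, Λ.πe hd, one_mul, Λ.πV]

theorem Lift.WW (Λ : Lift π c t v Z e V) (hd : Dbl π c) (i : Fin 5) : W e V i * W e V i = 1 := by
  calc e * V i * (e * V i) = e * (V i * e) * V i := by group
    _ = e * (e * V i) * V i := by rw [← Λ.e_comm hd (V i)]
    _ = (e * e) * (V i * V i) := by group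
    _ = 1 := by rw [Λ.ee hd, Λ.VV, one_mul]

theorem Lift.Wac (Λ : Lift π c t v Z e V) (hd : Dbl π c) {i j : Fin 5} (hij : i ≠ j) :
    W e V i * W e V j = Z * (W e V j * W e V i) := by
  have h1 : ∀ a b : L, e * a * (e * b) = a * b := by
    intro a b
    calc e * a * (e * b) = e * (a * e) * b := by group
      _ = e * (e * a) * b := by rw [Λ.e_comm hd a]
      _ = (e * e) * (a * b) := by group
      _ = a * b := by rw [Λ.ee hd, one_mul]
  rw [W, W, h1, h1, Λ.Vac i j hij]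

theorem Lift.WZ (Λ : Lift π c t v Z e V) (hd : Dbl π c) (D : Dat t u Q v ρ) (i : Fin 5) :
    W e V i * Z = Z * W e V i := comm_of hd D Λ.πZ (by rw [Λ.πW hd]; exact D.vt i)

theorem Lift.Wprod (Λ : Lift π c t v Z e V) (hd : Dbl π c) :
    W e V 0 * W e V 1 * W e V 2 * W e V 3 * W e V 4 = 1 := by
  have h2 : ∀ a b : L, e * a * (e * b) = a * b := by
    intro a b
    calc e * a * (e * b) = e * (a * e) * b := by group
      _ = e * (e * a) * b := by rw [Λ.e_comm hd a]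
      _ = (e * e) * (a * b) := by group
      _ = a * b := by rw [Λ.ee hd, one_mul]
  have h1 : W e V 0 * W e V 1 * W e V 2 * W e V 3 * W e V 4 = e * (V 0 * V 1 * V 2 * V 3 * V 4) := by
    simp only [W]
    rw [h2, ← mul_assoc (V 0 * V 1) e, ← Λ.e_comm hd (V 0 * V 1), mul_assoc e, h2,
      ← mul_assoc (V 0 * V 1 * V 2 * V 3) e, ← Λ.e_comm hd (V 0 * V 1 * V 2 * V 3), mul_assoc e]
  rw [h1, Λ.prod, Λ.ee hd]

/-- the lifted group does not contain `c` -/
theorem Lift.c_notMem (Λ : Lift π c t v Z e V) (hd : Dbl π c) (D : Dat t u Q v ρ) :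
    c ∉ closure (Set.range (W e V)) := by
  intro hc
  obtain ⟨a, b0, b1, b2, b3, h⟩ := nf_all Λ.ZZ (Λ.WZ hd D) (Λ.WW hd) (fun i j => Λ.Wac hd) (Λ.Wprod hd) hc
  have h1 := congrArg π h
  rw [(hd.ker c).2 (Or.inr rfl), map_mul, map_mul, map_mul, map_mul, map_zp, map_zp, map_zp, map_zp, map_zp, Λ.πZ,
    Λ.πW hd, Λ.πW hd, Λ.πW hd, Λ.πW hd] at h1
  have h2 : (1 : centralizer ({t} : Set X)) = zp (zc t) a * (zp (v 0) b0 * (zp (v 1) b1 * (zp (v 2) b2 *
      zp (v 3) b3))) := by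
    apply Subtype.ext
    show (1 : X) = (centralizer ({t} : Set X)).subtype (zp (zc t) a * (zp (v 0) b0 * (zp (v 1) b1 * (zp (v 2) b2 *
      zp (v 3) b3))))
    rw [map_mul, map_mul, map_mul, map_mul, map_zp, map_zp, map_zp, map_zp, map_zp]
    exact h1
  have h3 := congrArg ρ h2
  rw [map_one, map_mul, map_mul, map_mul, map_mul, map_zp, map_zp, map_zp, map_zp, map_zp,
    rho_v D.M, rho_v D.M, rho_v D.M, rho_v D.M, rho_z D.M] at h3
  have h4 : zp (1 : SP) a = 1 := by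
    rcases zmod2_cases a with rfl | rfl
    · exact zp_zero _
    · exact zp_one _
  rw [h4, one_mul] at h3
  obtain ⟨rfl, rfl, rfl, rfl⟩ := sp_aux b0 b1 b2 b3 h3.symm
  rw [zp_zero, zp_zero, zp_zero, zp_zero, mul_one, mul_one, mul_one, mul_one] at h
  rcases zmod2_cases a with rfl | rfl
  · rw [zp_zero] at h
    exact hd.ne h
  · rw [zp_one] at h
    have := Λ.πZ
    rw [← h, (hd.ker c).2 (Or.inr rfl)] at this
    exact D.t_ne this.symm

/-- **The action of an automorphism on the lifted group.** -/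
theorem Lift.act (Λ : Lift π c t v Z e V) (hd : Dbl π c) (D : Dat t u Q v ρ) (γ : MulAut L) (hγc : γ c = c)
    (σ : Equiv.Perm (Fin 5)) (s : Fin 5 → ZMod 2)
    (h : ∀ i, π (γ (V i)) = ((zp (zc t) (s i) * v (σ i) : centralizer ({t} : Set X)) : X)) :
    γ Z = Z ∧ ∀ i, γ (W e V i) = zp Z (s i) * W e V (σ i) := by
  have hγe : γ e = e := by
    rcases Λ.ec with h | h
    · rw [h, map_one]
    · rw [h, hγc]
  -- `γ (V i)` up to a central factor
  have h1 : ∀ i, ∃ f : L, (∀ x, f * x = x * f) ∧ γ (V i) = f * (zp Z (s i) * V (σ i)) := by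
    intro i
    have h2 : π (γ (V i)) = π (zp Z (s i) * V (σ i)) := by
      rw [h i, map_mul, Λ.π_zp, Λ.πV]; rfl
    rcases eq_or hd h2 with h3 | h3
    · exact ⟨1, fun x => by rw [one_mul, mul_one], by rw [h3, one_mul]⟩
    · exact ⟨c, hd.cen, h3⟩
  have hzc : ∀ (a : ZMod 2) (i : Fin 5), V i * zp Z a = zp Z a * V i := by
    intro a i
    rcases zmod2_cases a with rfl | rfl
    · rw [zp_zero, one_mul, mul_one]
    · rw [zp_one]; exact Λ.Z_comm_V hd D i
  have hzz : ∀ (a b : ZMod 2), zp Z a * zp Z b = zp Z b * zp Z a := by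
    intro a b
    rw [← zp_add Z Λ.ZZ, ← zp_add Z Λ.ZZ, add_comm]
  have hzZ : ∀ a : ZMod 2, zp Z a * Z = Z * zp Z a := by
    intro a
    rcases zmod2_cases a with rfl | rfl
    · rw [zp_zero, one_mul, mul_one]
    · rw [zp_one]
  have hγZ : γ Z = Z := by
    obtain ⟨f, hf, hf'⟩ := h1 0
    obtain ⟨g, hg, hg'⟩ := h1 1
    have h2 : Z = V 0 * V 1 * (V 0)⁻¹ * (V 1)⁻¹ := by
      rw [Λ.Vac 0 1 (by decide)]; group
    have h3 := congrArg γ (Λ.Vac 0 1 (by decide))
    rw [map_mul, map_mul, map_mul, hf', hg'] at h3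
    -- both sides are `f g z^(s0+s1) V V`
    have e1 : f * (zp Z (s 0) * V (σ 0)) * (g * (zp Z (s 1) * V (σ 1))) =
        f * g * (zp Z (s 0) * zp Z (s 1)) * (V (σ 0) * V (σ 1)) := by
      calc f * (zp Z (s 0) * V (σ 0)) * (g * (zp Z (s 1) * V (σ 1)))
          = f * ((zp Z (s 0) * V (σ 0)) * g) * (zp Z (s 1) * V (σ 1)) := by group
        _ = f * (g * (zp Z (s 0) * V (σ 0))) * (zp Z (s 1) * V (σ 1)) := by rw [hg]
        _ = f * g * zp Z (s 0) * (V (σ 0) * zp Z (s 1)) * V (σ 1) := by group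
        _ = f * g * zp Z (s 0) * (zp Z (s 1) * V (σ 0)) * V (σ 1) := by rw [hzc]
        _ = _ := by group
    have e2 : g * (zp Z (s 1) * V (σ 1)) * (f * (zp Z (s 0) * V (σ 0))) =
        f * g * (zp Z (s 0) * zp Z (s 1)) * (V (σ 1) * V (σ 0)) := by
      calc g * (zp Z (s 1) * V (σ 1)) * (f * (zp Z (s 0) * V (σ 0)))
          = g * ((zp Z (s 1) * V (σ 1)) * f) * (zp Z (s 0) * V (σ 0)) := by group
        _ = g * (f * (zp Z (s 1) * V (σ 1))) * (zp Z (s 0) * V (σ 0)) := by rw [hf]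
        _ = (g * f) * zp Z (s 1) * (V (σ 1) * zp Z (s 0)) * V (σ 0) := by group
        _ = (f * g) * zp Z (s 1) * (zp Z (s 0) * V (σ 1)) * V (σ 0) := by rw [hzc, hf g]
        _ = (f * g) * (zp Z (s 1) * zp Z (s 0)) * (V (σ 1) * V (σ 0)) := by group
        _ = _ := by rw [hzz]
    rw [e1, e2] at h3
    have h4 : σ 0 ≠ σ 1 := fun h => absurd (σ.injective h) (by decide)
    rw [Λ.Vac _ _ h4] at h3
    have h5 : f * g * (zp Z (s 0) * zp Z (s 1)) * (Z * (V (σ 1) * V (σ 0))) =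
        Z * (f * g * (zp Z (s 0) * zp Z (s 1)) * (V (σ 1) * V (σ 0))) := by
      calc f * g * (zp Z (s 0) * zp Z (s 1)) * (Z * (V (σ 1) * V (σ 0)))
          = f * g * (zp Z (s 0) * (zp Z (s 1) * Z)) * (V (σ 1) * V (σ 0)) := by group
        _ = f * g * (zp Z (s 0) * (Z * zp Z (s 1))) * (V (σ 1) * V (σ 0)) := by rw [hzZ]
        _ = f * g * ((zp Z (s 0) * Z) * zp Z (s 1)) * (V (σ 1) * V (σ 0)) := by group
        _ = f * g * ((Z * zp Z (s 0)) * zp Z (s 1)) * (V (σ 1) * V (σ 0)) := by rw [hzZ]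
        _ = f * (g * Z) * (zp Z (s 0) * zp Z (s 1)) * (V (σ 1) * V (σ 0)) := by group
        _ = f * (Z * g) * (zp Z (s 0) * zp Z (s 1)) * (V (σ 1) * V (σ 0)) := by rw [hg]
        _ = (f * Z) * g * (zp Z (s 0) * zp Z (s 1)) * (V (σ 1) * V (σ 0)) := by group
        _ = (Z * f) * g * (zp Z (s 0) * zp Z (s 1)) * (V (σ 1) * V (σ 0)) := by rw [hf]
        _ = _ := by group
    rw [h5] at h3
    exact (mul_right_cancel h3).symm
  refine ⟨hγZ, fun i => ?_⟩
  have h2 : γ (V i) = zp Z (s i) * V (σ i) := by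
    apply uniq hd D.perfect Λ.πZ
    · obtain ⟨g, hg⟩ := Λ.Vcls i
      exact ⟨γ g, by rw [← hg, map_mul, map_mul, map_inv, hγZ]⟩
    · exact Λ.cls_zp _ _
    · rw [h i, map_mul, Λ.π_zp, Λ.πV]; rfl
  rw [W, W, map_mul, hγe, h2]
  calc e * (zp Z (s i) * V (σ i)) = (e * zp Z (s i)) * V (σ i) := by group
    _ = (zp Z (s i) * e) * V (σ i) := by rw [Λ.e_comm hd]
    _ = _ := by group


/-! ### The lifts of the conjugates of `u` -/

/-- the preimage of `C(t)` -/
def Pre (π : L →* X) (t : X) : Subgroup L := (centralizer ({t} : Set X)).comap π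

theorem mem_Pre {g : L} : g ∈ Pre π t ↔ π g * t = t * π g := mem_cent

theorem c_mem_Pre (hd : Dbl π c) : c ∈ Pre π t := by
  rw [mem_Pre, (hd.ker c).2 (Or.inr rfl), one_mul, mul_one]

theorem index_Pre [Finite X] (hd : Dbl π c) (D : Dat t u Q v ρ) : (Pre π t).index = 315 := by
  rw [Pre, index_comap_of_surjective _ hd.surj, D.index]

/-- the action of the preimage of `C(t)` -/
theorem Lift.act_conj (Λ : Lift π c t v Z e V) (hd : Dbl π c) (D : Dat t u Q v ρ) {g : L}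
    (hg : π g * t = t * π g) (i : Fin 5) :
    g * W e V i * g⁻¹ = zp Z ((ρ ⟨π g, mem_cent.2 hg⟩).s i) * W e V ((ρ ⟨π g, mem_cent.2 hg⟩).σ i) := by
  refine (Λ.act hd D (MulAut.conj g) ?_ (ρ ⟨π g, mem_cent.2 hg⟩).σ (ρ ⟨π g, mem_cent.2 hg⟩).s ?_).2 i
  · show g * c * g⁻¹ = c
    rw [← hd.cen g, mul_inv_cancel_right]
  · intro i
    rw [← D.M.conj]
    show π (g * V i * g⁻¹) = _
    rw [map_mul, map_mul, map_inv, Λ.πV]
    rfl

theorem Lift.Z_mem (Λ : Lift π c t v Z e V) (hd : Dbl π c) : Z ∈ closure (Set.range (W e V)) := by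
  have h1 : Z = W e V 0 * W e V 1 * (W e V 0)⁻¹ * (W e V 1)⁻¹ := by
    rw [Λ.Wac hd (show (0 : Fin 5) ≠ 1 by decide)]; group
  have hW : ∀ i, W e V i ∈ closure (Set.range (W e V)) := fun i => subset_closure ⟨i, rfl⟩
  rw [h1]
  exact mul_mem (mul_mem (mul_mem (hW 0) (hW 1)) (inv_mem (hW 0))) (inv_mem (hW 1))

theorem Lift.norm (Λ : Lift π c t v Z e V) (hd : Dbl π c) (D : Dat t u Q v ρ) {g : L}
    (hg : π g * t = t * π g) : ∀ x ∈ closure (Set.range (W e V)), g * x * g⁻¹ ∈ closure (Set.range (W e V)) := by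
  intro x hx
  induction hx using closure_induction with
  | mem x hx =>
    obtain ⟨i, rfl⟩ := hx
    rw [Λ.act_conj hd D hg i]
    exact mul_mem (zp_mem _ Z (Λ.Z_mem hd) _) (subset_closure ⟨_, rfl⟩)
  | one => rw [mul_one, mul_inv_cancel]; exact one_mem _
  | mul x y _ _ ihx ihy =>
    have : g * (x * y) * g⁻¹ = (g * x * g⁻¹) * (g * y * g⁻¹) := by group
    rw [this]; exact mul_mem ihx ihy
  | inv x _ ih =>
    have : g * x⁻¹ * g⁻¹ = (g * x * g⁻¹)⁻¹ := by group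
    rw [this]; exact inv_mem ih

theorem Lift.lift_mem (Λ : Lift π c t v Z e V) (hd : Dbl π c) (D : Dat t u Q v ρ) {q : centralizer ({t} : Set X)}
    (hq : q ∈ Q) : ∃ y ∈ closure (Set.range (W e V)), π y = (q : X) := by
  have h1 : Q ≤ ((closure (Set.range (W e V))).map π).comap (centralizer ({t} : Set X)).subtype := by
    apply Cfsg.Agent.KFacts.QMinus.Q_le D.M
    intro i
    exact ⟨W e V i, subset_closure ⟨i, rfl⟩, Λ.πW hd i⟩
  obtain ⟨y, hy, hy'⟩ := h1 hq
  exact ⟨y, hy, hy'⟩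

/-- a Sylow 2-subgroup of the preimage of `C(t)` -/
theorem exists_T [Finite L] [Finite X] (hd : Dbl π c) (D : Dat t u Q v ρ) : ∃ T : Subgroup L, c ∈ T ∧ T ≤ Pre π t ∧
    IsPGroup 2 T ∧ ¬ 2 ∣ T.index := by
  have hp : Fact (Nat.Prime 2) := ⟨Nat.prime_two⟩
  have h1 : IsPGroup 2 (zpowers (⟨c, c_mem_Pre hd⟩ : Pre π t)) := by
    rw [IsPGroup.iff_card]
    refine ⟨1, ?_⟩
    rw [Nat.card_zpowers, pow_one]
    exact orderOf_eq_prime (by rw [pow_two]; exact Subtype.ext hd.sq) (fun h => hd.ne (congrArg Subtype.val h))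
  obtain ⟨S, hS⟩ := h1.exists_le_sylow
  refine ⟨(S : Subgroup (Pre π t)).map (Pre π t).subtype, ⟨⟨c, c_mem_Pre hd⟩, hS (mem_zpowers _), rfl⟩,
    map_subtype_le _, S.isPGroup'.map _, ?_⟩
  rw [index_map_subtype]
  intro h
  rcases (Nat.Prime.dvd_mul Nat.prime_two).1 h with h | h
  · exact S.not_dvd_index h
  · rw [index_Pre hd D] at h
    omega

/-- the lifts of the conjugates of `u` have square `c` -/
theorem sq_u [Finite L] [Finite X] (hd : Dbl π c) (D : Dat t u Q v ρ) {x : L} (hx : IsConj u (π x)) :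
    x * x = c := by
  by_contra hne
  obtain ⟨g, hg⟩ := isConj_iff.1 hx
  have hxx : x * x = 1 := by
    refine (sq_or hd ?_).resolve_right hne
    rw [← hg]
    calc g * u * g⁻¹ * (g * u * g⁻¹) = g * (u * u) * g⁻¹ := by group
      _ = 1 := by rw [D.uu]; group
  -- all lifts of conjugates of `u` are involutions
  have hall : ∀ y : L, IsConj u (π y) → y * y = 1 := by
    intro y hy
    obtain ⟨k, hk⟩ := isConj_iff.1 (hx.symm.trans hy)
    rw [sq_conj hd k hk ?_, hxx]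
    rw [← map_mul, hxx, map_one]
  obtain ⟨Z, e, V, Λ⟩ := exists_lift hd D
  obtain ⟨T, hcT, hTP, hTp, hTi⟩ := exists_T hd D
  refine false_of_squares hd.toCtr hcT hTi (Q₁ := closure (Set.range (W e V)) ⊓ T) inf_le_right ?_
    (fun h => Λ.c_notMem hd D h.1)
  intro x hx
  refine ⟨?_, mul_mem hx hx⟩
  have hxt := mem_Pre.1 (hTP hx)
  set k : centralizer ({t} : Set X) := ⟨π x, mem_cent.2 hxt⟩ with hk
  have hs : Equiv.Perm.sign (ρ k).σ = 1 := ((D.M.range (ρ k)).1 ⟨k, rfl⟩).1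
  have hσ : (ρ k).σ * (ρ k).σ = 1 := by
    obtain ⟨n, hn⟩ := hTp ⟨x, hx⟩
    have hn' : x ^ (2 ^ n) = 1 := congrArg Subtype.val hn
    have hk1 : k ^ (2 ^ n) = 1 := by
      apply Subtype.ext
      rw [SubmonoidClass.coe_pow]
      show π x ^ (2 ^ n) = 1
      rw [← map_pow, hn', map_one]
    apply perm_two hs (n := n)
    have h1 : ∀ m : ℕ, (ρ k ^ m).σ = (ρ k).σ ^ m := by
      intro m
      induction m with
      | zero => rw [pow_zero, pow_zero]; rfl
      | succ m ih => rw [pow_succ, pow_succ, mul_σ, ih]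
    rw [← h1, ← map_pow, hk1, map_one]; rfl
  obtain ⟨w, hw2, hwσ, hw3⟩ : ∃ w : centralizer ({t} : Set X), w * w = 1 ∧ (ρ w).σ = (ρ k).σ ∧
      (w = 1 ∨ w ∉ Q) := by
    by_cases h1 : (ρ k).σ = 1
    · exact ⟨1, one_mul _, by rw [h1, map_one]; rfl, Or.inl rfl⟩
    · obtain ⟨w, hw⟩ := (D.M.range ⟨(ρ k).σ, fun _ => 0⟩).2 ⟨hs, by simp⟩
      refine ⟨w, sq_of_rho_sq D.M (u := ⟨u, D.u_mem⟩) (Subtype.ext D.uu) D.u_notMem ?_ ?_, by rw [hw], Or.inr ?_⟩
      · rw [hw]
        apply SP.ext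
        · rw [mul_σ, hσ]; rfl
        · funext i
          rw [mul_s]
          show (0 : ZMod 2) + 0 = 0
          rw [add_zero]
      · rw [hw]; exact h1
      · rw [D.M.mem_Q, hw]; exact h1
  obtain ⟨U, hU⟩ : ∃ U : L, π U = (w : X) ∧ U * U = 1 := by
    rcases hw3 with h | h
    · exact ⟨1, by rw [h, map_one]; rfl, one_mul _⟩
    · obtain ⟨U, hU⟩ := hd.surj (w : X)
      exact ⟨U, hU, hall U (by rw [hU]; exact D.isConj_outer hw2 h)⟩
  obtain ⟨hU, hU2⟩ := hU
  have hUt : π U * t = t * π U := by rw [hU]; exact mem_cent.1 w.2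
  have hkw : k * w⁻¹ ∈ Q := by
    rw [D.M.mem_Q, map_mul, map_inv, mul_σ, inv_σ, hwσ, mul_inv_cancel]
  obtain ⟨y', hy', hπy⟩ := Λ.lift_mem hd D hkw
  have hxy : π (x * U⁻¹) = π y' := by
    rw [hπy, map_mul, map_inv, hU]; rfl
  have hUi : U⁻¹ = U := inv_eq_of_mul_eq_one_left hU2
  have e1 : ∀ f : L, (∀ y, y * f = f * y) → f * f = 1 → x * U⁻¹ = f * y' →
      x * x ∈ closure (Set.range (W e V)) := by
    intro f hf hff h
    have h1 : x = f * y' * U := by rw [← h]; group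
    have h2 : x * x = y' * (U * y' * U⁻¹) := by
      rw [h1]
      calc f * y' * U * (f * y' * U) = f * y' * (U * f) * y' * U := by group
        _ = f * y' * (f * U) * y' * U := by rw [hf]
        _ = f * (y' * f) * U * y' * U := by group
        _ = f * (f * y') * U * y' * U := by rw [hf]
        _ = (f * f) * (y' * (U * y' * U)) := by group
        _ = _ := by rw [hff, one_mul, hUi]
    rw [h2]
    exact mul_mem hy' (Λ.norm hd D hUt y' hy')
  rcases eq_or hd hxy with h | h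
  · exact e1 1 (fun y => by rw [one_mul, mul_one]) (one_mul _) (by rw [one_mul]; exact h)
  · exact e1 c (fun y => (hd.cen y).symm) hd.sq h

end Cfsg.Agent.OddHalf.D9.J2.Cover
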