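import Cfsg.Agent.OddHalf.D9.J2.Cover

/-!
# Facts on the double cover of the Hall–Janko group (helper341)

`KF c N`: the list of facts on `K` and its central involution `c` used in `Kill.lean`.
`kf`: they hold for the double cover of a group of Hall–Janko type, with `N = 64`.
-/

set_option autoImplicit false
set_option linter.style.haveILetI false

namespace Cfsg.Agent.OddHalf.D9.J2.Facts

open Subgroup Cfsg.Agent.KFacts.MulTwo Cfsg.Agent.KFacts.MulDef Cfsg.Agent.KFacts.MulSpor.Class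
open Cfsg.Agent.J2Type.Model Cfsg.Agent.J2Type.SPFacts Cfsg.Agent.J2Type.CStruct
open Cfsg.Agent.J3Type.OneClass Cfsg.Agent.J2Type.Base Cfsg.Agent.KFacts.J2.Basic
open Cfsg.Agent.OddHalf.D9.J2.Cover
open scoped commutatorElement

/-- The facts on `K` and its central involution `c`. -/
structure KF {L : Type*} [Group L] (c : L) (N : ℕ) : Prop where
  ne : c ≠ 1
  sq : c * c = 1
  cen : ∀ x, c * x = x * c
  perf : commutator L = ⊤
  /-- noncentral involutions: `c` lies in a perfect subgroup `Y` of the centraliser and has many square roots in `Y` -/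
  inv1 : ∀ e : L, e * e = 1 → e ≠ 1 → e ≠ c → ∃ Y : Subgroup L, ⁅Y, Y⁆ = Y ∧ (∀ y ∈ Y, y * e = e * y) ∧ c ∈ Y ∧
    N < Nat.card {x : L // x ∈ Y ∧ x * x = c}
  /-- noncentral involutions have few square roots -/
  inv2 : ∀ e : L, e * e = 1 → e ≠ 1 → e ≠ c → Nat.card {x : L // x * x = e} ≤ N
  /-- square roots of `c` -/
  four : ∀ w : L, w * w = c → ∃ Y : Subgroup L, ⁅Y, Y⁆ = Y ∧ (∀ y ∈ Y, y * w = w * y) ∧
    ∃ x ∈ Y, x ≠ 1 ∧ ∃ k, k * w * k⁻¹ = w * x
  /-- `Out` has exponent 2 -/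
  aut_sq : ∀ α : MulAut L, α c = c → ∃ k, α * α = MulAut.conj k
  /-- outer automorphisms of order 2 -/
  aut_out : ∀ α : MulAut L, α c = c → α * α = 1 → (∀ k, α ≠ MulAut.conj k) →
    ∃ y w, α y = y ∧ y * y ≠ 1 ∧ α w = y * y * w

variable {L X : Type*} [Group L] [Group X] {π : L →* X} {c : L} {t u : X}
  {Q : Subgroup (centralizer ({t} : Set X))} {v : Fin 5 → centralizer ({t} : Set X)}
  {ρ : centralizer ({t} : Set X) →* SP}

/-! ### Induced automorphisms -/

theorem exists_bar (hd : Dbl π c) (α : MulAut L) (hα : α c = c) : ∃ β : MulAut X, ∀ x, β (π x) = π (α x) := by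
  let f : L →* X := π.comp α.toMonoidHom
  have hf : Function.Surjective f := hd.surj.comp α.surjective
  have hk : π.ker = f.ker := by
    ext x
    rw [MonoidHom.mem_ker, MonoidHom.mem_ker]
    show π x = 1 ↔ π (α x) = 1
    rw [hd.ker, hd.ker]
    constructor
    · rintro (h | h)
      · left; rw [h, map_one]
      · right; rw [h, hα]
    · rintro (h | h)
      · left; exact (map_eq_one_iff α α.injective).1 h
      · right
        apply α.injective
        rw [h, hα]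
  refine ⟨(QuotientGroup.quotientKerEquivOfSurjective π hd.surj).symm.trans
    ((QuotientGroup.quotientMulEquivOfEq hk).trans (QuotientGroup.quotientKerEquivOfSurjective f hf)), ?_⟩
  intro x
  have h1 : (QuotientGroup.quotientKerEquivOfSurjective π hd.surj).symm (π x) = QuotientGroup.mk x := by
    rw [MulEquiv.symm_apply_eq]; rfl
  show (QuotientGroup.quotientKerEquivOfSurjective f hf) ((QuotientGroup.quotientMulEquivOfEq hk)
    ((QuotientGroup.quotientKerEquivOfSurjective π hd.surj).symm (π x))) = _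
  rw [h1]
  rfl

theorem eq_one_of_bar (hd : Dbl π c) (γ : MulAut L) (h : ∀ x, π (γ x) = π x) : γ = 1 := by
  let N : Subgroup L :=
    { carrier := {x | γ x = x}
      one_mem' := map_one γ
      mul_mem' := fun {a b} ha hb => by
        show γ (a * b) = a * b
        rw [map_mul, show γ a = a from ha, show γ b = b from hb]
      inv_mem' := fun {a} ha => by
        show γ a⁻¹ = a⁻¹
        rw [map_inv, show γ a = a from ha] }
  have hN : N = ⊤ := by
    rw [eq_top_iff, ← hd.perf, _root_.commutator_def, Subgroup.commutator_le]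
    intro a _ b _
    have key : ∀ x, ∃ f : L, (∀ y, f * y = y * f) ∧ γ x = f * x := by
      intro x
      rcases eq_or hd (h x) with h1 | h1
      · exact ⟨1, fun y => by rw [one_mul, mul_one], by rw [h1, one_mul]⟩
      · exact ⟨c, hd.cen, h1⟩
    obtain ⟨f, hf, hf'⟩ := key a
    obtain ⟨g, hg, hg'⟩ := key b
    show γ ⁅a, b⁆ = ⁅a, b⁆
    rw [map_commutatorElement, hf', hg', commutatorElement_def, commutatorElement_def]
    calc f * a * (g * b) * (f * a)⁻¹ * (g * b)⁻¹ = f * (a * g) * b * a⁻¹ * f⁻¹ * b⁻¹ * g⁻¹ := by group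
      _ = f * (g * a) * b * a⁻¹ * f⁻¹ * b⁻¹ * g⁻¹ := by rw [hg a]
      _ = (f * (g * a * b * a⁻¹)) * f⁻¹ * b⁻¹ * g⁻¹ := by group
      _ = ((g * a * b * a⁻¹) * f) * f⁻¹ * b⁻¹ * g⁻¹ := by rw [hf]
      _ = (g * (a * b * a⁻¹ * b⁻¹)) * g⁻¹ := by group
      _ = ((a * b * a⁻¹ * b⁻¹) * g) * g⁻¹ := by rw [hg]
      _ = _ := by group
  ext x
  have : x ∈ N := by rw [hN]; trivial
  exact this

/-- an automorphism inducing an inner automorphism is inner -/
theorem inner_of_bar (hd : Dbl π c) (α : MulAut L) (k : L) (h : ∀ x, π (α x) = π k * π x * (π k)⁻¹) :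
    α = MulAut.conj k := by
  have h1 : (MulAut.conj k)⁻¹ * α = 1 := by
    apply eq_one_of_bar hd
    intro x
    rw [Cfsg.Agent.KFacts.OutQ.conj_inv_mul_apply, map_mul, map_mul, map_inv, h]
    group
  exact (inv_mul_eq_one.1 h1).symm

/-! ### Perfect subgroups -/

theorem perfect_commutator (hd : Dbl π c) {M : Subgroup L} (hM : ⁅M.map π, M.map π⁆ = M.map π) :
    ⁅⁅M, M⁆, ⁅M, M⁆⁆ = ⁅M, M⁆ ∧ (⁅M, M⁆ : Subgroup L).map π = M.map π := by
  have h1 : (⁅M, M⁆ : Subgroup L).map π = M.map π := by rw [map_commutator, hM]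
  refine ⟨le_antisymm (commutator_le_self _) ?_, h1⟩
  rw [commutator_le (H₁ := M)]
  intro a ha b hb
  have key : ∀ x ∈ M, ∃ f y : L, (∀ w, f * w = w * f) ∧ y ∈ (⁅M, M⁆ : Subgroup L) ∧ x = f * y := by
    intro x hx
    have h2 : π x ∈ (⁅M, M⁆ : Subgroup L).map π := by rw [h1]; exact mem_map_of_mem π hx
    obtain ⟨y, hy, hyx⟩ := h2
    rcases eq_or hd hyx.symm with h | h
    · exact ⟨1, y, fun w => by rw [one_mul, mul_one], hy, by rw [h, one_mul]⟩
    · exact ⟨c, y, hd.cen, hy, h⟩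
  obtain ⟨f, a', hf, ha', rfl⟩ := key a ha
  obtain ⟨g, b', hg, hb', rfl⟩ := key b hb
  have h2 : ⁅f * a', g * b'⁆ = ⁅a', b'⁆ := by
    rw [commutatorElement_def, commutatorElement_def]
    calc f * a' * (g * b') * (f * a')⁻¹ * (g * b')⁻¹ = f * (a' * g) * b' * a'⁻¹ * f⁻¹ * b'⁻¹ * g⁻¹ := by group
      _ = f * (g * a') * b' * a'⁻¹ * f⁻¹ * b'⁻¹ * g⁻¹ := by rw [hg a']
      _ = (f * (g * a' * b' * a'⁻¹)) * f⁻¹ * b'⁻¹ * g⁻¹ := by group
      _ = ((g * a' * b' * a'⁻¹) * f) * f⁻¹ * b'⁻¹ * g⁻¹ := by rw [hf]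
      _ = (g * (a' * b' * a'⁻¹ * b'⁻¹)) * g⁻¹ := by group
      _ = ((a' * b' * a'⁻¹ * b'⁻¹) * g) * g⁻¹ := by rw [hg]
      _ = _ := by group
  rw [h2]
  exact commutator_mem_commutator ha' hb'

theorem map_Pre (hd : Dbl π c) : (Pre π t).map π = centralizer ({t} : Set X) :=
  map_comap_eq_self_of_surjective hd.surj _

theorem perf_C (D : Dat t u Q v ρ) [Finite X] :
    ⁅centralizer ({t} : Set X), centralizer ({t} : Set X)⁆ = centralizer ({t} : Set X) :=
  (Cfsg.Agent.KFacts.QMinus.sheet D.cardC D.M).perf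

theorem perf_Pre [Finite L] [Finite X] (hd : Dbl π c) (D : Dat t u Q v ρ) : ⁅Pre π t, Pre π t⁆ = Pre π t := by
  have hM : ⁅(Pre π t).map π, (Pre π t).map π⁆ = (Pre π t).map π := by rw [map_Pre hd, perf_C D]
  obtain ⟨-, h1⟩ := perfect_commutator hd hM
  have hc : c ∈ ⁅Pre π t, Pre π t⁆ := by
    have h2 := hd.toCtr.hom_eq_one (c_mem_Pre hd) (by rw [index_Pre hd D]; omega)
      (Abelianization.of : Pre π t →* Abelianization (Pre π t))
    have h3 : (⟨c, c_mem_Pre hd⟩ : Pre π t) ∈ commutator (Pre π t) := by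
      rw [← Abelianization.ker_of, MonoidHom.mem_ker]
      exact h2
    have h4 : c ∈ (commutator (Pre π t)).map (Pre π t).subtype := ⟨_, h3, rfl⟩
    rwa [_root_.commutator_def, map_commutator, ← MonoidHom.range_eq_map, range_subtype] at h4
  refine le_antisymm (commutator_le_self _) ?_
  intro x hx
  have h2 : π x ∈ (⁅Pre π t, Pre π t⁆ : Subgroup L).map π := by rw [h1]; exact mem_map_of_mem π hx
  obtain ⟨y, hy, hyx⟩ := h2
  rcases eq_or hd hyx.symm with h | h
  · rw [h]; exact hy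
  · rw [h]; exact mul_mem hc hy

theorem perf_map {Y : Subgroup L} (h : ⁅Y, Y⁆ = Y) (g : L) :
    ⁅Y.map (MulAut.conj g).toMonoidHom, Y.map (MulAut.conj g).toMonoidHom⁆ = Y.map (MulAut.conj g).toMonoidHom := by
  rw [← map_commutator, h]

/-! ### Involutions -/

theorem not_one_or_c (hd : Dbl π c) {e : L} (he1 : e ≠ 1) (hec : e ≠ c) : π e ≠ 1 := fun h =>
  ((hd.ker e).1 h).elim he1 hec

/-- a noncentral involution is a lift of a conjugate of `t` -/
theorem isConj_of_inv [Finite L] [Finite X] (hd : Dbl π c) (D : Dat t u Q v ρ) {e : L} (he : e * e = 1)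
    (he1 : e ≠ 1) (hec : e ≠ c) : IsConj t (π e) := by
  have h1 : orderOf (π e) = 2 := orderOf_two (by rw [← map_mul, he, map_one]) (not_one_or_c hd he1 hec)
  rcases D.F.cover _ h1 with h | h
  · exact h
  · exfalso
    have := sq_u hd D h
    rw [he] at this
    exact hd.ne this.symm

theorem card_ker (hd : Dbl π c) : Nat.card π.ker = 2 := by
  have h1 : (π.ker : Set L) = {1, c} := by
    ext x
    exact hd.ker x
  have h2 : Nat.card π.ker = (π.ker : Set L).ncard := rfl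
  rw [h2, h1, Set.ncard_pair hd.ne.symm]

theorem card_L [Finite L] [Finite X] (hd : Dbl π c) (D : Dat t u Q v ρ) : Nat.card L = 604800 * 2 := by
  rw [card_eq_card_quotient_mul_card_subgroup π.ker, card_ker hd,
    Nat.card_congr (QuotientGroup.quotientKerEquivOfSurjective π hd.surj).toEquiv, D.card]

theorem card_preQ [Finite L] [Finite X] (hd : Dbl π c) (D : Dat t u Q v ρ) :
    Nat.card ((Q.map (centralizer ({t} : Set X)).subtype).comap π) = 64 := by
  have h1 := ((Q.map (centralizer ({t} : Set X)).subtype).comap π).card_mul_index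
  have h2 := (Q.map (centralizer ({t} : Set X)).subtype).card_mul_index
  have h3 : Nat.card (Q.map (centralizer ({t} : Set X)).subtype) = 32 := by
    rw [card_map_of_injective (centralizer ({t} : Set X)).subtype_injective, D.cardQ]
  rw [index_comap_of_surjective _ hd.surj, card_L hd D] at h1
  rw [h3, D.card] at h2
  have h4 : (Q.map (centralizer ({t} : Set X)).subtype).index = 18900 := by omega
  rw [h4] at h1
  omega

/-- square roots of `t` lie in `Q` -/
theorem mem_Q_of_sq (D : Dat t u Q v ρ) {y : X} (hy : y * y = t) :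
    y ∈ Q.map (centralizer ({t} : Set X)).subtype := by
  have hyc : y * t = t * y := by rw [← hy]; group
  set w : centralizer ({t} : Set X) := ⟨y, mem_cent.2 hyc⟩ with hw
  have h1 : w * w = zc t := Subtype.ext hy
  have h2 : ρ w * ρ w = 1 := by rw [← map_mul, h1, rho_z D.M]
  refine ⟨w, ?_, rfl⟩
  show w ∈ Q
  rw [D.M.mem_Q]
  by_contra hσ
  have h3 := sq_of_rho_sq D.M (u := ⟨u, D.u_mem⟩) (Subtype.ext D.uu) D.u_notMem h2 hσ
  rw [h1] at h3
  exact D.t_ne (congrArg Subtype.val h3)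

theorem inv2 [Finite L] [Finite X] (hd : Dbl π c) (D : Dat t u Q v ρ) {e : L} (he : e * e = 1)
    (he1 : e ≠ 1) (hec : e ≠ c) : Nat.card {x : L // x * x = e} ≤ 64 := by
  obtain ⟨g, hg⟩ := isConj_iff.1 (isConj_of_inv hd D he he1 hec)
  obtain ⟨g, rfl⟩ := hd.surj g
  rw [← card_preQ hd D]
  refine Nat.card_le_card_of_injective (fun x => ⟨g⁻¹ * x.1 * g, ?_⟩) ?_
  · apply mem_Q_of_sq D
    show π (g⁻¹ * x.1 * g) * π (g⁻¹ * x.1 * g) = t
    have h1 : g⁻¹ * x.1 * g * (g⁻¹ * x.1 * g) = g⁻¹ * e * g := by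
      calc g⁻¹ * x.1 * g * (g⁻¹ * x.1 * g) = g⁻¹ * (x.1 * x.1) * g := by group
        _ = _ := by rw [x.2]
    rw [← map_mul, h1, map_mul, map_mul, map_inv, ← hg]
    group
  · intro x y h
    have h1 : g⁻¹ * x.1 * g = g⁻¹ * y.1 * g := congrArg Subtype.val h
    exact Subtype.ext (mul_left_cancel (mul_right_cancel h1))

theorem inv1 [Finite L] [Finite X] (hd : Dbl π c) (D : Dat t u Q v ρ) {e : L} (he : e * e = 1)
    (he1 : e ≠ 1) (hec : e ≠ c) : ∃ Y : Subgroup L, ⁅Y, Y⁆ = Y ∧ (∀ y ∈ Y, y * e = e * y) ∧ c ∈ Y ∧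
    64 < Nat.card {x : L // x ∈ Y ∧ x * x = c} := by
  obtain ⟨g, hg⟩ := isConj_iff.1 (isConj_of_inv hd D he he1 hec)
  obtain ⟨g, rfl⟩ := hd.surj g
  have hgc : g * c * g⁻¹ = c := by rw [← hd.cen g, mul_inv_cancel_right]
  refine ⟨(Pre π t).map (MulAut.conj g).toMonoidHom, perf_map (perf_Pre hd D) g, ?_, ⟨c, c_mem_Pre hd, hgc⟩, ?_⟩
  · rintro _ ⟨y, hy, rfl⟩
    show g * y * g⁻¹ * e = e * (g * y * g⁻¹)
    have h1 : π (g⁻¹ * e * g) = t := by rw [map_mul, map_mul, map_inv, ← hg]; group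
    have h2 := comm_of hd D h1 (mem_Pre.1 hy)
    calc g * y * g⁻¹ * e = g * (y * (g⁻¹ * e * g)) * g⁻¹ := by group
      _ = g * (g⁻¹ * e * g * y) * g⁻¹ := by rw [h2]
      _ = e * (g * y * g⁻¹) := by group
  · have h3 : 120 ≤ Nat.card {x : L // x ∈ (Pre π t).map (MulAut.conj g).toMonoidHom ∧ x * x = c} := by
      rw [← D.F.card120]
      have key : ∀ y : {y : X // IsConj u y ∧ y * t = t * y}, ∃ x : L, π x = y.1 := fun y => hd.surj _
      choose f hf using key
      refine Nat.card_le_card_of_injective (fun y => ⟨g * f y * g⁻¹, ⟨f y, ?_, rfl⟩, ?_⟩) ?_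
      · show f y ∈ Pre π t
        rw [mem_Pre, hf]
        exact y.2.2
      · calc g * f y * g⁻¹ * (g * f y * g⁻¹) = g * (f y * f y) * g⁻¹ := by group
          _ = c := by rw [sq_u hd D (x := f y) (by rw [hf]; exact y.2.1), hgc]
      · intro y y' h
        have h1 : g * f y * g⁻¹ = g * f y' * g⁻¹ := congrArg Subtype.val h
        have h2 : f y = f y' := mul_left_cancel (mul_right_cancel h1)
        apply Subtype.ext
        rw [← hf y, ← hf y', h2]
    omega


/-! ### Square roots of `c` -/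

theorem perf_A5 {H0 : Subgroup X} (h : Nonempty (H0 ≃* alternatingGroup (Fin 5))) : ⁅H0, H0⁆ = H0 := by
  obtain ⟨e⟩ := h
  have h1 : commutator (alternatingGroup (Fin 5)) = ⊤ := by
    have h2 := commutator_alternatingGroup_eq_self (α := Fin 5) (by simp)
    rw [eq_top_iff]
    intro x _
    have h3 : (x : Equiv.Perm (Fin 5)) ∈ (commutator (alternatingGroup (Fin 5))).map
        (alternatingGroup (Fin 5)).subtype := by
      rw [_root_.commutator_def, map_commutator, ← MonoidHom.range_eq_map, range_subtype, h2]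
      exact x.2
    obtain ⟨y, hy, hyx⟩ := h3
    have : y = x := Subtype.ext hyx
    rw [← this]; exact hy
  have h2 : commutator H0 = ⊤ :=
    commutator_top_of_surj e.symm.toMonoidHom e.symm.surjective h1
  have h3 := congrArg (Subgroup.map H0.subtype) h2
  rw [_root_.commutator_def, map_commutator, ← MonoidHom.range_eq_map, range_subtype] at h3
  exact h3

/-- an element of `K` commuting up to `c` with the elements of `M` commutes with `M'` -/
theorem comm_commutator (hd : Dbl π c) {M : Subgroup L} {w : L} (h : ∀ y ∈ M, y * w = w * y ∨ y * w = c * (w * y)) :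
    ∀ y ∈ (⁅M, M⁆ : Subgroup L), y * w = w * y := by
  have h1 : (⁅M, M⁆ : Subgroup L) ≤ centralizer ({w} : Set L) := by
    rw [commutator_le]
    intro a ha b hb
    rw [mem_centralizer_singleton_iff]
    have h' : ∀ y ∈ M, ∃ e : L, (∀ x, e * x = x * e) ∧ y * w * y⁻¹ = e * w := by
      intro y hy
      rcases h y hy with h2 | h2
      · exact ⟨1, fun x => by rw [one_mul, mul_one], by rw [h2]; group⟩
      · exact ⟨c, hd.cen, by rw [h2]; group⟩
    obtain ⟨e, he, he'⟩ := h' a ha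
    obtain ⟨f, hf, hf'⟩ := h' b hb
    have ha' : a⁻¹ * w * a = e⁻¹ * w := by
      calc a⁻¹ * w * a = a⁻¹ * (e⁻¹ * (e * w)) * a := by group
        _ = a⁻¹ * (e⁻¹ * (a * w * a⁻¹)) * a := by rw [he']
        _ = (e * a)⁻¹ * (a * w) := by group
        _ = (a * e)⁻¹ * (a * w) := by rw [he]
        _ = e⁻¹ * w := by group
    have hb' : b⁻¹ * w * b = f⁻¹ * w := by
      calc b⁻¹ * w * b = b⁻¹ * (f⁻¹ * (f * w)) * b := by group
        _ = b⁻¹ * (f⁻¹ * (b * w * b⁻¹)) * b := by rw [hf']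
        _ = (f * b)⁻¹ * (b * w) := by group
        _ = (b * f)⁻¹ * (b * w) := by rw [hf]
        _ = f⁻¹ * w := by group
    have ci : ∀ x, e⁻¹ * x = x * e⁻¹ := fun x => by
      rw [inv_mul_eq_iff_eq_mul, ← mul_assoc, he, mul_inv_cancel_right]
    have fi : ∀ x, f⁻¹ * x = x * f⁻¹ := fun x => by
      rw [inv_mul_eq_iff_eq_mul, ← mul_assoc, hf, mul_inv_cancel_right]
    have h3 : ⁅a, b⁆ * w * ⁅a, b⁆⁻¹ = w := by
      rw [commutatorElement_def]
      calc a * b * a⁻¹ * b⁻¹ * w * (a * b * a⁻¹ * b⁻¹)⁻¹ = a * b * (a⁻¹ * (b⁻¹ * w * b) * a) * b⁻¹ * a⁻¹ := by group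
        _ = a * b * (a⁻¹ * (f⁻¹ * w) * a) * b⁻¹ * a⁻¹ := by rw [hb']
        _ = a * b * ((a⁻¹ * f⁻¹) * w * a) * b⁻¹ * a⁻¹ := by group
        _ = a * b * ((f⁻¹ * a⁻¹) * w * a) * b⁻¹ * a⁻¹ := by rw [fi]
        _ = a * b * (f⁻¹ * (a⁻¹ * w * a)) * b⁻¹ * a⁻¹ := by group
        _ = a * b * (f⁻¹ * (e⁻¹ * w)) * b⁻¹ * a⁻¹ := by rw [ha']
        _ = a * (b * f⁻¹ * e⁻¹) * w * b⁻¹ * a⁻¹ := by group
        _ = a * (f⁻¹ * b * e⁻¹) * w * b⁻¹ * a⁻¹ := by rw [fi b]
        _ = a * (f⁻¹ * (b * e⁻¹)) * w * b⁻¹ * a⁻¹ := by group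
        _ = a * (f⁻¹ * (e⁻¹ * b)) * w * b⁻¹ * a⁻¹ := by rw [ci b]
        _ = a * (f⁻¹ * e⁻¹) * (b * w * b⁻¹) * a⁻¹ := by group
        _ = a * (f⁻¹ * e⁻¹) * (f * w) * a⁻¹ := by rw [hf']
        _ = a * f⁻¹ * (e⁻¹ * f) * w * a⁻¹ := by group
        _ = a * f⁻¹ * (f * e⁻¹) * w * a⁻¹ := by rw [ci f]
        _ = (a * e⁻¹) * w * a⁻¹ := by group
        _ = (e⁻¹ * a) * w * a⁻¹ := by rw [ci a]
        _ = e⁻¹ * (a * w * a⁻¹) := by group
        _ = e⁻¹ * (e * w) := by rw [he']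
        _ = w := by group
    exact mul_inv_eq_iff_eq_mul.1 h3
  intro y hy
  exact mem_centralizer_singleton_iff.1 (h1 hy)

/-- square roots of `c` -/
theorem four' [Finite L] [Finite X] (hd : Dbl π c) (D : Dat t u Q v ρ) {w : L} (hw : w * w = c) :
    ∃ Y : Subgroup L, ⁅Y, Y⁆ = Y ∧ (∀ y ∈ Y, y * w = w * y) ∧ ∃ x ∈ Y, IsConj t (π x) ∧
      ∃ k, k * w * k⁻¹ = w * x := by
  obtain ⟨f, U, V, H0, FF⟩ := Cfsg.Agent.J2Type.CentU.main D.F
  obtain ⟨-, -, h60, hA5⟩ := Cfsg.Agent.J2Type.Order.order_of_fus D.F FF.str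
  obtain ⟨û, hû⟩ := hd.surj u
  have hûc : û * û = c := sq_u hd D (by rw [hû])
  -- a second involution of `V`
  obtain ⟨b, hbV, hb1, hbu⟩ : ∃ b ∈ V, b ≠ 1 ∧ b ≠ u := by
    by_contra hcon
    push Not at hcon
    have h1 : (V : Set X) ⊆ {1, u} := by
      intro x hx
      by_cases h : x = 1
      · exact Or.inl h
      · exact Or.inr (hcon x hx h)
    have h2 : Nat.card V = (V : Set X).ncard := rfl
    have h3 := Set.ncard_le_ncard h1 (Set.toFinite _)
    have h4 := Set.ncard_insert_le (1 : X) {u}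
    rw [Set.ncard_singleton] at h4
    have h5 := FF.cardV
    omega
  obtain ⟨b', hb'⟩ := hd.surj b
  have hb'c : b' * b' = c := sq_u hd D (by rw [hb']; exact Cfsg.Agent.J2Type.Cent5.isConj_of_mem_V D.F FF hbV hb1)
  have hub : (û * b') * (û * b') = c := by
    apply sq_u hd D
    rw [map_mul, hû, hb']
    apply Cfsg.Agent.J2Type.Cent5.isConj_of_mem_V D.F FF (mul_mem FF.uV hbV)
    intro h
    apply hbu
    calc b = u * u * b := by rw [D.uu, one_mul]
      _ = u * (u * b) := by group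
      _ = u := by rw [h, mul_one]
  -- `b' û b'⁻¹ = c û`
  have hswap : b' * û * b'⁻¹ = c * û := by
    have h1 : û * (b' * û * b'⁻¹) = 1 := by
      calc û * (b' * û * b'⁻¹) = (û * b') * (û * b') * (b' * b')⁻¹ := by group
        _ = 1 := by rw [hub, hb'c, mul_inv_cancel]
    have h2 : û * (c * û) = 1 := by
      calc û * (c * û) = (û * c) * û := by group
        _ = (c * û) * û := by rw [hd.cen]
        _ = c * (û * û) := by group
        _ = 1 := by rw [hûc, hd.sq]
    exact mul_left_cancel (h1.trans h2.symm)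
  -- all square roots of `c` are conjugate to `û`
  have hconj : ∀ w : L, w * w = c → ∃ g, g * û * g⁻¹ = w := by
    intro w hw
    have h1 : orderOf (π w) = 2 := by
      refine orderOf_two (by rw [← map_mul, hw]; exact (hd.ker c).2 (Or.inr rfl)) ?_
      intro h
      rcases (hd.ker w).1 h with h | h
      · rw [h, one_mul] at hw; exact hd.ne hw.symm
      · rw [h, hd.sq] at hw; exact hd.ne hw.symm
    rcases D.F.cover _ h1 with h | h
    · exfalso
      have := sq_t hd D h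
      rw [hw] at this
      exact hd.ne this
    · obtain ⟨g, hg⟩ := isConj_iff.1 h
      obtain ⟨g, rfl⟩ := hd.surj g
      rcases eq_or hd (x := g * û * g⁻¹) (y := w) (by rw [map_mul, map_mul, map_inv, hû, hg]) with h2 | h2
      · exact ⟨g, h2⟩
      · refine ⟨g * b', ?_⟩
        calc g * b' * û * (g * b')⁻¹ = g * (b' * û * b'⁻¹) * g⁻¹ := by group
          _ = (g * c) * û * g⁻¹ := by rw [hswap]; group
          _ = (c * g) * û * g⁻¹ := by rw [hd.cen]
          _ = c * (g * û * g⁻¹) := by group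
          _ = (c * c) * w := by rw [h2]; group
          _ = w := by rw [hd.sq, one_mul]
  -- the perfect subgroup
  set M : Subgroup L := H0.comap π with hM
  have hMπ : M.map π = H0 := map_comap_eq_self_of_surjective hd.surj _
  obtain ⟨hp1, hp2⟩ := perfect_commutator hd (M := M) (by rw [hMπ]; exact perf_A5 hA5)
  have hcomm : ∀ y ∈ (⁅M, M⁆ : Subgroup L), y * û = û * y := by
    apply comm_commutator hd
    intro y hy
    apply comm_or hd
    rw [hû]
    exact mem_cent.1 (FF.str.le hy)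
  -- a lift of `t`
  obtain ⟨x, hxM, hxt⟩ : ∃ x ∈ (⁅M, M⁆ : Subgroup L), π x = t := by
    have h1 : t ∈ (⁅M, M⁆ : Subgroup L).map π := by
      rw [hp2, hMπ]
      exact FF.U_le FF.zU
    exact h1
  have hxx : x * x = 1 := sq_t hd D (by rw [hxt])
  obtain ⟨k, hk⟩ := hconj (û * x) (by
    calc û * x * (û * x) = û * (x * û) * x := by group
      _ = û * (û * x) * x := by rw [hcomm x hxM]
      _ = (û * û) * (x * x) := by group
      _ = c := by rw [hûc, hxx, mul_one])
  -- the general case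
  obtain ⟨g, rfl⟩ := hconj w hw
  refine ⟨(⁅M, M⁆ : Subgroup L).map (MulAut.conj g).toMonoidHom, perf_map hp1 g, ?_, g * x * g⁻¹, ⟨x, hxM, rfl⟩, ?_,
    g * k * g⁻¹, ?_⟩
  · rintro _ ⟨y, hy, rfl⟩
    show g * y * g⁻¹ * (g * û * g⁻¹) = g * û * g⁻¹ * (g * y * g⁻¹)
    calc g * y * g⁻¹ * (g * û * g⁻¹) = g * (y * û) * g⁻¹ := by group
      _ = g * (û * y) * g⁻¹ := by rw [hcomm y hy]
      _ = _ := by group
  · exact isConj_iff.2 ⟨π g, by rw [map_mul, map_mul, map_inv, hxt]⟩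
  · calc g * k * g⁻¹ * (g * û * g⁻¹) * (g * k * g⁻¹)⁻¹ = g * (k * û * k⁻¹) * g⁻¹ := by group
      _ = g * (û * x) * g⁻¹ := by rw [hk]
      _ = _ := by group

theorem four [Finite L] [Finite X] (hd : Dbl π c) (D : Dat t u Q v ρ) {w : L} (hw : w * w = c) :
    ∃ Y : Subgroup L, ⁅Y, Y⁆ = Y ∧ (∀ y ∈ Y, y * w = w * y) ∧ ∃ x ∈ Y, x ≠ 1 ∧ ∃ k, k * w * k⁻¹ = w * x := by
  obtain ⟨Y, h1, h2, x, hx, hxt, k, hk⟩ := four' hd D hw
  refine ⟨Y, h1, h2, x, hx, ?_, k, hk⟩
  rintro rfl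
  rw [map_one] at hxt
  exact D.t_ne (isConj_one_left.1 hxt)

/-! ### Automorphisms -/

theorem aut_sq [Finite X] (hd : Dbl π c) (D : Dat t u Q v ρ) {α : MulAut L} (hα : α c = c) :
    ∃ k, α * α = MulAut.conj k := by
  obtain ⟨β, hβ⟩ := exists_bar hd α hα
  obtain ⟨k, hk⟩ := D.sq_inner β
  obtain ⟨k, rfl⟩ := hd.surj k
  refine ⟨k, inner_of_bar hd _ k ?_⟩
  intro x
  show π (α (α x)) = _
  rw [← hβ, ← hβ]
  have := congrArg (fun γ : MulAut X => γ (π x)) hk
  exact this

theorem perm_aux : ∀ σ : Equiv.Perm (Fin 5), Equiv.Perm.sign σ = -1 → σ * σ = 1 →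
    ∃ i j a b d : Fin 5, i ≠ j ∧ σ i = j ∧ σ j = i ∧ a ≠ b ∧ b ≠ d ∧ a ≠ d ∧ σ a = a ∧ σ b = b ∧ σ d = d := by
  decide +kernel

theorem three_aux : ∀ x y z : ZMod 2, x = y ∨ y = z ∨ x = z := by decide

/-- outer automorphisms of order 2 -/
theorem aut_out' [Finite L] [Finite X] (hd : Dbl π c) (D : Dat t u Q v ρ) {α : MulAut L} (hα : α c = c)
    (hαα : α * α = 1) (hout : ∀ k, α ≠ MulAut.conj k) :
    ∃ y w, α y = y ∧ IsConj t (π (y * y)) ∧ α w = y * y * w := by
  obtain ⟨β, hβ⟩ := exists_bar hd α hα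
  have hααx : ∀ x, α (α x) = x := fun x => by
    have := congrArg (fun γ : MulAut L => γ x) hαα
    exact this
  have hββ : ∀ x, β (β x) = x := by
    intro x
    obtain ⟨x, rfl⟩ := hd.surj x
    rw [hβ, hβ, hααx]
  -- a fixed conjugate of `t`
  obtain ⟨s, hs, hβs⟩ : ∃ s, IsConj t s ∧ β s = s := by
    classical
    haveI : Fintype {y : X // ∃ k : X, k * t * k⁻¹ = y} := Fintype.ofFinite _
    have hcard : Nat.card {y : X // ∃ k : X, k * t * k⁻¹ = y} = 315 := by
      have h1 := card_conj t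
      have h2 : Nat.card {k : X // k * t = t * k} = 1920 := by
        rw [← D.cardC]
        exact Nat.card_congr (Equiv.subtypeEquivRight fun k => mem_cent.symm)
      rw [h2, D.card] at h1
      omega
    have hcl : ∀ y : X, (∃ k : X, k * t * k⁻¹ = y) ↔ IsConj t y := fun y => isConj_iff.symm
    have hmap : ∀ y : X, (∃ k : X, k * t * k⁻¹ = y) → ∃ k : X, k * t * k⁻¹ = β y := by
      intro y hy
      rw [hcl] at hy ⊢
      exact (D.isConj_aut β).trans (isConj_map β hy)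
    let σ : Equiv.Perm {y : X // ∃ k : X, k * t * k⁻¹ = y} :=
      { toFun := fun y => ⟨β y.1, hmap y.1 y.2⟩
        invFun := fun y => ⟨β y.1, hmap y.1 y.2⟩
        left_inv := fun y => Subtype.ext (hββ y.1)
        right_inv := fun y => Subtype.ext (hββ y.1) }
    haveI : Fact (Nat.Prime 2) := ⟨Nat.prime_two⟩
    obtain ⟨a, ha⟩ := Equiv.Perm.exists_fixed_point_of_prime (p := 2) (n := 1)
      (by rw [← Nat.card_eq_fintype_card, hcard]; omega) (σ := σ) (by
        rw [pow_one, pow_two]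
        ext y
        exact hββ y.1)
    exact ⟨a.1, (hcl _).1 a.2, congrArg Subtype.val ha⟩
  obtain ⟨g, hg⟩ := isConj_iff.1 hs
  obtain ⟨g, rfl⟩ := hd.surj g
  -- `γ = conj g⁻¹ α conj g` fixes `t`
  set γ : MulAut L := (MulAut.conj g)⁻¹ * α * MulAut.conj g with hγ
  have hγx : ∀ x, γ x = g⁻¹ * α (g * x * g⁻¹) * g := by
    intro x
    show (MulAut.conj g)⁻¹ (α (g * x * g⁻¹)) = _
    rw [← map_inv, MulAut.conj_apply, inv_inv]
  have hγc : γ c = c := by
    rw [hγx, ← hd.cen g, mul_inv_cancel_right, hα, mul_assoc, hd.cen g, inv_mul_cancel_left]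
  have hγγ : ∀ x, γ (γ x) = x := by
    intro x
    rw [hγx, hγx]
    have h1 : g * (g⁻¹ * α (g * x * g⁻¹) * g) * g⁻¹ = α (g * x * g⁻¹) := by group
    rw [h1, hααx]; group
  obtain ⟨δ, hδ⟩ := exists_bar hd γ hγc
  have hδt : δ t = t := by
    obtain ⟨τ, hτ⟩ := hd.surj t
    have h1 := hδ τ
    rw [hτ] at h1
    have h2 : π (g * τ * g⁻¹) = s := by rw [map_mul, map_mul, map_inv, hτ, hg]
    rw [h1, hγx, map_mul, map_mul, map_inv, ← hβ, h2, hβs, ← hg]
    group
  have hδδ : ∀ x, δ (δ x) = x := by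
    intro x
    obtain ⟨x, rfl⟩ := hd.surj x
    rw [hδ, hδ, hγγ]
  obtain ⟨σ, s', hσ⟩ := D.exists_act δ hδt
  -- `σ` is odd
  have hodd : Equiv.Perm.sign σ = -1 := by
    rcases Int.units_eq_one_or (Equiv.Perm.sign σ) with h | h
    · exfalso
      obtain ⟨k, hk⟩ := D.inner_of_even δ hδt σ s' hσ h
      obtain ⟨k, rfl⟩ := hd.surj k
      have h1 : γ = MulAut.conj k := by
        apply inner_of_bar hd
        intro x
        rw [← hδ, hk]; rfl
      apply hout (g * k * g⁻¹)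
      rw [map_mul, map_mul, ← h1, hγ, map_inv]
      group
    · exact h
  have hinvol : ∀ i, σ (σ i) = i ∧ s' i + s' (σ i) = 0 := by
    intro i
    have h1 := hδδ (v i)
    rw [hσ i] at h1
    have h2 : δ ((zp (zc t) (s' i) : centralizer ({t} : Set X)) : X) =
        ((zp (zc t) (s' i) : centralizer ({t} : Set X)) : X) := by
      rcases zmod2_cases (s' i) with h | h
      · rw [h, zp_zero]; exact map_one δ
      · rw [h, zp_one]; exact hδt
    have h3 : ((zp (zc t) (s' i) * (zp (zc t) (s' (σ i)) * v (σ (σ i))) : centralizer ({t} : Set X)) : X) = v i := by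
      rw [← h1]
      show ((zp (zc t) (s' i) : centralizer ({t} : Set X)) : X) *
        ((zp (zc t) (s' (σ i)) * v (σ (σ i)) : centralizer ({t} : Set X)) : X) =
        δ (((zp (zc t) (s' i) : centralizer ({t} : Set X)) : X) * v (σ i))
      rw [map_mul, h2, hσ (σ i)]
    have h4 : zp (zc t) (s' i + s' (σ i)) * v (σ (σ i)) = zp (zc t) 0 * v i := by
      rw [zp_zero, one_mul, zp_add (zc t) D.M.z_sq, mul_assoc]
      exact Subtype.ext h3
    have h5 := D.M.v_inj _ _ _ _ h4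
    exact ⟨h5.2, h5.1⟩
  have hσσ : σ * σ = 1 := by
    ext i
    show ((σ (σ i) : Fin 5) : ℕ) = i
    rw [(hinvol i).1]
  obtain ⟨Z, e, V, Λ⟩ := exists_lift hd D
  obtain ⟨hγZ, hact⟩ := Λ.act hd D γ hγc σ s' (by
    intro i
    rw [← hδ, Λ.πV, hσ i])
  have hzc : ∀ (a : ZMod 2) (i : Fin 5), W e V i * zp Z a = zp Z a * W e V i := by
    intro a i
    rcases zmod2_cases a with rfl | rfl
    · rw [zp_zero, one_mul, mul_one]
    · rw [zp_one]; exact Λ.WZ hd D i
  have hpair : ∀ i j, γ (W e V i * W e V j) = zp Z (s' i + s' j) * (W e V (σ i) * W e V (σ j)) := by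
    intro i j
    rw [map_mul, hact i, hact j]
    calc zp Z (s' i) * W e V (σ i) * (zp Z (s' j) * W e V (σ j))
        = zp Z (s' i) * (W e V (σ i) * zp Z (s' j)) * W e V (σ j) := by group
      _ = zp Z (s' i) * (zp Z (s' j) * W e V (σ i)) * W e V (σ j) := by rw [hzc]
      _ = _ := by rw [zp_add Z Λ.ZZ]; group
  obtain ⟨i, j, a, b, d, hij, hi, hj, hab, hbd, had, ha, hb, hd'⟩ := perm_aux σ hodd hσσ
  -- two fixed indices with the same sign
  obtain ⟨k, l, hkl, hk, hl, hskl⟩ : ∃ k l, k ≠ l ∧ σ k = k ∧ σ l = l ∧ s' k = s' l := by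
    rcases three_aux (s' a) (s' b) (s' d) with h | h | h
    · exact ⟨a, b, hab, ha, hb, h⟩
    · exact ⟨b, d, hbd, hb, hd', h⟩
    · exact ⟨a, d, had, ha, hd', h⟩
  have hsij : s' i + s' j = 0 := by rw [← hi]; exact (hinvol i).2
  have hskl' : s' k + s' l = 0 := by rw [hskl]; exact CharTwo.add_self_eq_zero _
  have hsq : ∀ i j, i ≠ j → W e V i * W e V j * (W e V i * W e V j) = Z := by
    intro i j hij
    calc W e V i * W e V j * (W e V i * W e V j) = Z * (W e V j * W e V i) * (W e V i * W e V j) := by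
          rw [← Λ.Wac hd hij]
      _ = Z * (W e V j * (W e V i * W e V i) * W e V j) := by group
      _ = Z := by rw [Λ.WW hd, mul_one, Λ.WW hd, mul_one]
  -- the elements for `γ`
  have hy : γ (W e V k * W e V l) = W e V k * W e V l := by
    rw [hpair, hskl', zp_zero, one_mul, hk, hl]
  have hw : γ (W e V i * W e V j) = Z * (W e V i * W e V j) := by
    rw [hpair, hsij, zp_zero, one_mul, hi, hj, Λ.Wac hd hij.symm]
  -- back to `α`
  have hback : ∀ x y, γ x = y → α (g * x * g⁻¹) = g * y * g⁻¹ := by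
    intro x y h
    rw [← h, hγx]; group
  refine ⟨g * (W e V k * W e V l) * g⁻¹, g * (W e V i * W e V j) * g⁻¹, hback _ _ hy, ?_, ?_⟩
  · have h1 : g * (W e V k * W e V l) * g⁻¹ * (g * (W e V k * W e V l) * g⁻¹) =
        g * (W e V k * W e V l * (W e V k * W e V l)) * g⁻¹ := by group
    rw [h1, hsq k l hkl, map_mul, map_mul, map_inv, Λ.πZ]
    exact isConj_iff.2 ⟨π g, rfl⟩
  · rw [hback _ _ hw, ← hsq k l hkl]
    group

theorem aut_out [Finite L] [Finite X] (hd : Dbl π c) (D : Dat t u Q v ρ) {α : MulAut L} (hα : α c = c)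
    (hαα : α * α = 1) (hout : ∀ k, α ≠ MulAut.conj k) : ∃ y w, α y = y ∧ y * y ≠ 1 ∧ α w = y * y * w := by
  obtain ⟨y, w, h1, h2, h3⟩ := aut_out' hd D hα hαα hout
  refine ⟨y, w, h1, ?_, h3⟩
  intro h
  rw [h, map_one] at h2
  exact D.t_ne (isConj_one_left.1 h2)

/-- **The facts.** -/
theorem kf [Finite L] [Finite X] (hd : Dbl π c) (D : Dat t u Q v ρ) : KF c 64 where
  ne := hd.ne
  sq := hd.sq
  cen := hd.cen
  perf := hd.perf
  inv1 := fun _ he he1 hec => inv1 hd D he he1 hec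
  inv2 := fun _ he he1 hec => inv2 hd D he he1 hec
  four := fun _ hw => four hd D hw
  aut_sq := fun _ hα => aut_sq hd D hα
  aut_out := fun _ h1 h2 h3 => aut_out hd D h1 h2 h3

end Cfsg.Agent.OddHalf.D9.J2.Facts
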