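import Cfsg.Agent.OddHalf.D9.J2.Facts
import Cfsg.Agent.OddHalf.D9.ExTrick

/-!
# D9, `K = 2.J₂`: the end (helper341)

`false_of_kf`: `G` simple, `z` an involution of `K ≤ G`, `K` normal in `C(z)`, all perfect subgroups of `C(z)` in `K`,
`z` the only involution of `C(K)`, `Z(K) = {1, z}`, and `K` has the properties `KF z N`: impossible.
-/

set_option autoImplicit false

namespace Cfsg.Agent.OddHalf.D9.J2.Kill

open Subgroup Cfsg.Agent.OddHalf.D9.J2.Facts

variable {G : Type*} [Group G]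

/-- Conjugation by an element normalising `K`. -/
def conjAut {K : Subgroup G} (h : G) (h1 : ∀ k ∈ K, h * k * h⁻¹ ∈ K) (h2 : ∀ k ∈ K, h⁻¹ * k * h ∈ K) :
    MulAut ↥K where
  toFun x := ⟨h * x * h⁻¹, h1 x x.2⟩
  invFun x := ⟨h⁻¹ * x * h, h2 x x.2⟩
  left_inv x := Subtype.ext (by
    show h⁻¹ * (h * x * h⁻¹) * h = x
    group)
  right_inv x := Subtype.ext (by
    show h * (h⁻¹ * x * h) * h⁻¹ = x
    group)
  map_mul' x y := Subtype.ext (by
    show h * (x * y) * h⁻¹ = h * x * h⁻¹ * (h * y * h⁻¹)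
    group)

/-- `x ∈ K C(K)` -/
def InKR (K : Subgroup G) (x : G) : Prop := ∃ k ∈ K, ∃ r : G, (∀ y ∈ K, r * y = y * r) ∧ x = k * r

/-- the setting -/
structure Setup (z : G) (K : Subgroup G) (hzK : z ∈ K) (N : ℕ) : Prop where
  kf : KF (⟨z, hzK⟩ : K) N
  norm : ∀ h, h * z = z * h → ∀ k ∈ K, h * k * h⁻¹ ∈ K
  perf : ∀ Y : Subgroup G, ⁅Y, Y⁆ = Y → (∀ y ∈ Y, y * z = z * y) → Y ≤ K
  inv : ∀ r, (∀ k ∈ K, r * k = k * r) → r * r = 1 → r = 1 ∨ r = z
  cen : ∀ k ∈ K, (∀ x ∈ K, k * x = x * k) → k = 1 ∨ k = z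

section

variable {z : G} {K : Subgroup G} {hzK : z ∈ K} {N : ℕ}

theorem Setup.z_ne (S : Setup z K hzK N) : z ≠ 1 := fun h => S.kf.ne (Subtype.ext h)

theorem Setup.zz (S : Setup z K hzK N) : z * z = 1 := congrArg Subtype.val S.kf.sq

theorem Setup.zk (S : Setup z K hzK N) {k : G} (hk : k ∈ K) : z * k = k * z :=
  congrArg Subtype.val (S.kf.cen ⟨k, hk⟩)

theorem Setup.norm' (S : Setup z K hzK N) {h : G} (hh : h * z = z * h) : ∀ k ∈ K, h⁻¹ * k * h ∈ K := by
  intro k hk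
  have h1 : h⁻¹ * z = z * h⁻¹ := by
    rw [inv_mul_eq_iff_eq_mul, ← mul_assoc, hh, mul_inv_cancel_right]
  have := S.norm h⁻¹ h1 k hk
  rwa [inv_inv] at this

theorem sq_conj {x y : G} (hx : x * x = 1) (h : IsConj x y) : y * y = 1 := by
  obtain ⟨g, hg⟩ := isConj_iff.1 h
  rw [← hg]
  calc g * x * g⁻¹ * (g * x * g⁻¹) = g * (x * x) * g⁻¹ := by group
    _ = 1 := by rw [hx]; group

theorem ne_conj {x y : G} (hx : x ≠ 1) (h : IsConj x y) : y ≠ 1 := by
  obtain ⟨g, hg⟩ := isConj_iff.1 h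
  rw [← hg]
  exact fun h => hx (conj_eq_one_iff.1 h)

/-- (I1) -/
theorem Setup.inK [Finite G] (S : Setup z K hzK N) : ∀ k ∈ K, IsConj z k → k = z := by
  intro e heK he
  by_contra hne
  obtain ⟨g, hg⟩ := isConj_iff.1 he
  have hee := sq_conj S.zz he
  have he1 := ne_conj S.z_ne he
  obtain ⟨Y, hY, hYe, hcY, hN⟩ := S.kf.inv1 ⟨e, heK⟩ (Subtype.ext hee) (fun h => he1 (congrArg Subtype.val h))
    (fun h => hne (congrArg Subtype.val h))
  -- `g⁻¹ Y g ≤ K`
  have hYK : (Y.map K.subtype).map (MulAut.conj g⁻¹).toMonoidHom ≤ K := by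
    apply S.perf
    · rw [← map_commutator, ← map_commutator, hY]
    · rintro _ ⟨_, ⟨y, hy, rfl⟩, rfl⟩
      show g⁻¹ * (y : G) * g⁻¹⁻¹ * z = z * (g⁻¹ * (y : G) * g⁻¹⁻¹)
      have h1 : (y : G) * e = e * y := congrArg Subtype.val (hYe y hy)
      rw [← hg] at h1
      calc g⁻¹ * (y : G) * g⁻¹⁻¹ * z = g⁻¹ * (y * (g * z * g⁻¹)) * g := by group
        _ = g⁻¹ * (g * z * g⁻¹ * y) * g := by rw [h1]
        _ = _ := by group
  have hmem : ∀ y ∈ Y, g⁻¹ * (y : G) * g ∈ K := by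
    intro y hy
    have h1 : g⁻¹ * (y : G) * g = (MulAut.conj g⁻¹).toMonoidHom (y : G) := by
      show g⁻¹ * (y : G) * g = g⁻¹ * (y : G) * g⁻¹⁻¹
      rw [inv_inv]
    rw [h1]
    exact hYK ⟨_, ⟨y, hy, rfl⟩, rfl⟩
  have hz' : g⁻¹ * z * g ∈ K := hmem _ hcY
  have hz'1 : g⁻¹ * z * g ≠ 1 := by
    intro h
    apply S.z_ne
    calc z = g * (g⁻¹ * z * g) * g⁻¹ := by group
      _ = 1 := by rw [h]; group
  have hz'z : g⁻¹ * z * g ≠ z := by
    intro h
    apply hne
    rw [← hg]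
    calc g * z * g⁻¹ = g * (g⁻¹ * z * g) * g⁻¹ := by rw [h]
      _ = z := by group
  have hz'2 : g⁻¹ * z * g * (g⁻¹ * z * g) = 1 := by
    calc g⁻¹ * z * g * (g⁻¹ * z * g) = g⁻¹ * (z * z) * g := by group
      _ = 1 := by rw [S.zz]; group
  have h2 := S.kf.inv2 ⟨g⁻¹ * z * g, hz'⟩ (Subtype.ext hz'2) (fun h => hz'1 (congrArg Subtype.val h))
    (fun h => hz'z (congrArg Subtype.val h))
  have h3 : Nat.card {x : K // x ∈ Y ∧ x * x = ⟨z, hzK⟩} ≤
      Nat.card {x : K // x * x = ⟨g⁻¹ * z * g, hz'⟩} := by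
    refine Nat.card_le_card_of_injective (fun x => ⟨⟨g⁻¹ * x.1 * g, hmem x.1 x.2.1⟩, ?_⟩) ?_
    · apply Subtype.ext
      show g⁻¹ * (x.1 : G) * g * (g⁻¹ * (x.1 : G) * g) = g⁻¹ * z * g
      have h4 : (x.1 : G) * x.1 = z := congrArg Subtype.val x.2.2
      calc g⁻¹ * (x.1 : G) * g * (g⁻¹ * (x.1 : G) * g) = g⁻¹ * ((x.1 : G) * x.1) * g := by group
        _ = _ := by rw [h4]
    · intro x y h
      have h4 : g⁻¹ * (x.1 : G) * g = g⁻¹ * (y.1 : G) * g := congrArg (fun w => ((w.1 : K) : G)) h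
      exact Subtype.ext (Subtype.ext (mul_left_cancel (mul_right_cancel h4)))
  omega

/-- (I2) -/
theorem Setup.inKR [Finite G] (S : Setup z K hzK N) {e : G} (he : IsConj z e) (hKR : InKR K e) : e = z := by
  by_contra hne
  obtain ⟨v, hv, r, hr, rfl⟩ := hKR
  have hee := sq_conj S.zz he
  have hvr : r * v = v * r := hr v hv
  have h1 : v * v * (r * r) = 1 := by
    calc v * v * (r * r) = v * (v * r) * r := by group
      _ = v * (r * v) * r := by rw [hvr]
      _ = 1 := by rw [← hee]; group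
  have hvc : v * v = 1 ∨ v * v = z := by
    apply S.cen _ (mul_mem hv hv)
    intro x hx
    have h2 : v * v = (r * r)⁻¹ := eq_inv_of_mul_eq_one_left h1
    have h3 : r * r * x = x * (r * r) := by
      calc r * r * x = r * (r * x) := by group
        _ = r * (x * r) := by rw [hr x hx]
        _ = (r * x) * r := by group
        _ = (x * r) * r := by rw [hr x hx]
        _ = _ := by group
    rw [h2, inv_mul_eq_iff_eq_mul, ← mul_assoc, h3, mul_inv_cancel_right]
  rcases hvc with hvc | hvc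
  · -- `e ∈ K`
    rw [hvc, one_mul] at h1
    apply hne
    apply S.inK _ _ he
    rcases S.inv r hr h1 with h | h
    · rw [h, mul_one]; exact hv
    · rw [h]; exact mul_mem hv hzK
  · obtain ⟨Y, hY, hYv, x, hx, hx1, k, hk⟩ := S.kf.four ⟨v, hv⟩ (Subtype.ext hvc)
    obtain ⟨g, hg⟩ := isConj_iff.1 he.symm
    -- `g (v r) g⁻¹ = z`
    have hge : v * r = g⁻¹ * z * g := by rw [← hg]; group
    have hk' : (k : G) * v * (k : G)⁻¹ = v * x := congrArg Subtype.val hk
    have hkr : r * k = k * r := hr k k.2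
    have hxr : r * (x : G) = x * r := hr x x.2
    refine Cfsg.Agent.OddHalf.D9.ExTrick.false_of_pair (z := z) (g := g) (K := K) hzK S.perf S.inK ?_
      (Y := Y.map K.subtype) (by
        show ⁅Y.map K.subtype, Y.map K.subtype⁆ = Y.map K.subtype
        rw [← map_commutator, hY]) ?_ (x := x) ⟨x, hx, rfl⟩ (fun h => hx1 (Subtype.ext h)) (Or.inr ?_)
    · intro h
      have h2 := S.inK _ h (isConj_iff.2 ⟨g, rfl⟩)
      apply hne
      rw [hge]
      calc g⁻¹ * z * g = g⁻¹ * (g * z * g⁻¹) * g := by rw [h2]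
        _ = z := by group
    · rintro _ ⟨y, hy, rfl⟩
      show (y : G) * (g⁻¹ * z * g) = g⁻¹ * z * g * y
      rw [← hge]
      have h2 : (y : G) * v = v * y := congrArg Subtype.val (hYv y hy)
      calc (y : G) * (v * r) = (y * v) * r := by group
        _ = v * (y * r) := by rw [h2]; group
        _ = v * (r * y) := by rw [hr y y.2]
        _ = _ := by group
    · rw [← hge]
      refine he.trans (isConj_iff.2 ⟨k, ?_⟩)
      calc (k : G) * (v * r) * (k : G)⁻¹ = k * v * (r * (k : G)⁻¹) := by group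
        _ = k * v * ((k : G)⁻¹ * r) := by
            rw [hr _ (inv_mem k.2)]
        _ = (k * v * (k : G)⁻¹) * r := by group
        _ = v * (x * r) := by rw [hk']; group
        _ = v * (r * x) := by rw [hxr]
        _ = _ := by group

/-- an automorphism of `K` induced by `h` that is inner -/
theorem inKR_of_inner {K : Subgroup G} {h : G} (k : G) (hk : k ∈ K)
    (hc : ∀ x ∈ K, h * x * h⁻¹ = k * x * k⁻¹) : InKR K h := by
  refine ⟨k, hk, k⁻¹ * h, ?_, by group⟩
  intro y hy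
  have h1 := hc y hy
  calc k⁻¹ * h * y = k⁻¹ * (h * y * h⁻¹) * h := by group
    _ = k⁻¹ * (k * y * k⁻¹) * h := by rw [h1]
    _ = _ := by group

/-- (O) -/
theorem Setup.outer [Finite G] (S : Setup z K hzK N) {e : G} (he : IsConj z e) (hez : e * z = z * e)
    (hKR : ¬ InKR K e) : False := by
  have hee := sq_conj S.zz he
  set α : MulAut K := conjAut e (S.norm e hez) (S.norm' hez) with hα
  have hαx : ∀ x : K, ((α x : K) : G) = e * x * e⁻¹ := fun _ => rfl
  obtain ⟨y, w, hy, hyy, hw⟩ := S.kf.aut_out α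
    (Subtype.ext (by
      show e * z * e⁻¹ = z
      rw [hez]; group))
    (by
      ext x
      show e * (e * (x : G) * e⁻¹) * e⁻¹ = x
      calc e * (e * (x : G) * e⁻¹) * e⁻¹ = (e * e) * x * (e * e)⁻¹ := by group
        _ = x := by rw [hee]; group)
    (by
      intro k hk
      apply hKR
      refine inKR_of_inner (k : G) k.2 fun x hx => ?_
      have h1 := congrArg (fun β : MulAut K => ((β ⟨x, hx⟩ : K) : G)) hk
      exact h1)
  have hy' : e * (y : G) * e⁻¹ = y := congrArg Subtype.val hy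
  have hye : (y : G) * e = e * y := (mul_inv_eq_iff_eq_mul.1 hy').symm
  have hw' : e * (w : G) * e⁻¹ = y * y * w := congrArg Subtype.val hw
  obtain ⟨g, hg⟩ := isConj_iff.1 he
  -- `e y⁻²` is conjugate to `z`
  have h1 : IsConj z (e * ((y : G) * y)⁻¹) := by
    refine he.trans (isConj_iff.2 ⟨w, ?_⟩)
    have h2 : e * (w : G)⁻¹ = (w : G)⁻¹ * ((y : G) * y)⁻¹ * e := by
      have h3 : (e * (w : G) * e⁻¹)⁻¹ = ((y : G) * y * w)⁻¹ := by rw [hw']
      calc e * (w : G)⁻¹ = (e * (w : G) * e⁻¹)⁻¹ * e := by group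
        _ = _ := by rw [h3]; group
    have h4 : ((y : G) * y)⁻¹ * e = e * ((y : G) * y)⁻¹ := by
      rw [inv_mul_eq_iff_eq_mul, ← mul_assoc]
      have h5 : (y : G) * y * e = e * (y * y) := by
        calc (y : G) * y * e = y * (y * e) := by group
          _ = y * (e * y) := by rw [hye]
          _ = (y * e) * y := by group
          _ = (e * y) * y := by rw [hye]
          _ = _ := by group
      rw [h5, mul_inv_cancel_right]
    calc (w : G) * e * (w : G)⁻¹ = w * (e * (w : G)⁻¹) := by group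
      _ = ((y : G) * y)⁻¹ * e := by rw [h2]; group
      _ = _ := h4
  -- transport by `g⁻¹`
  set y' : G := g⁻¹ * y * g with hy'def
  have hy'z : y' * z = z * y' := by
    have hz : z = g⁻¹ * e * g := by rw [← hg]; group
    calc y' * z = g⁻¹ * y * g * (g⁻¹ * e * g) := by rw [← hz]
      _ = g⁻¹ * (y * e) * g := by group
      _ = g⁻¹ * (e * y) * g := by rw [hye]
      _ = (g⁻¹ * e * g) * (g⁻¹ * y * g) := by group
      _ = z * y' := by rw [← hz]
  obtain ⟨k, hk⟩ := S.kf.aut_sq (conjAut y' (S.norm y' hy'z) (S.norm' hy'z))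
    (Subtype.ext (by
      show y' * z * y'⁻¹ = z
      rw [hy'z]; group))
  obtain ⟨k', hk', r, hr, hyr⟩ : InKR K (y' * y') := by
    refine inKR_of_inner (k : G) k.2 fun x hx => ?_
    have h2 : y' * (y' * x * y'⁻¹) * y'⁻¹ = k * x * (k : G)⁻¹ :=
      congrArg (fun β : MulAut K => ((β ⟨x, hx⟩ : K) : G)) hk
    rw [← h2]; group
  have h2 : IsConj z (z * (y' * y')⁻¹) := by
    refine h1.trans (isConj_iff.2 ⟨g⁻¹, ?_⟩)
    rw [hy'def, ← hg]; group
  have h3 : InKR K (z * (y' * y')⁻¹) := by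
    refine ⟨z * k'⁻¹, mul_mem hzK (inv_mem hk'), r⁻¹, ?_, ?_⟩
    · intro x hx
      rw [inv_mul_eq_iff_eq_mul, ← mul_assoc, hr x hx, mul_inv_cancel_right]
    · rw [hyr, mul_inv_rev]
      have h4 : r⁻¹ * k'⁻¹ = k'⁻¹ * r⁻¹ := by
        have h5 := hr k' hk'
        calc r⁻¹ * k'⁻¹ = (k' * r)⁻¹ := by group
          _ = (r * k')⁻¹ := by rw [h5]
          _ = _ := by group
      rw [h4]; group
  have h4 := S.inKR h2 h3
  have h5 : y' * y' = 1 := by
    have h6 : (y' * y')⁻¹ = 1 := mul_eq_left.1 h4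
    rwa [inv_eq_one] at h6
  apply hyy
  apply Subtype.ext
  show (y : G) * y = 1
  calc (y : G) * y = g * (y' * y') * g⁻¹ := by rw [hy'def]; group
    _ = 1 := by rw [h5]; group

/-- **The kill.** -/
theorem Setup.false [Finite G] [IsSimpleGroup G] (S : Setup z K hzK N) (hna : ¬ IsMulCommutative G) : False := by
  have hz : orderOf z = 2 := orderOf_eq_prime (by rw [pow_two, S.zz]) S.z_ne
  obtain ⟨g, h1, h2⟩ := StandardComponent.AltFinal.exists_conj hna hz
  have he : IsConj z (g * z * g⁻¹) := isConj_iff.2 ⟨g, rfl⟩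
  by_cases hKR : InKR K (g * z * g⁻¹)
  · exact h1 (S.inKR he hKR)
  · exact S.outer he h2 hKR

end

end Cfsg.Agent.OddHalf.D9.J2.Kill
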